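import Mathlib.RingTheory.MvPolynomial.Homogeneous
import Mathlib.Algebra.MvPolynomial.Division
import Mathlib.RingTheory.Polynomial.UniqueFactorization
import Mathlib.Algebra.Order.Antidiag.FinsuppEquiv
import Mathlib.LinearAlgebra.Dimension.Constructions
import Mathlib.Tactic.LinearCombination
import Mathlib.Tactic.Ring

/-!
# Ternary forms: dimension, saturation of `(f, X₀ ^ N)`
-/

set_option autoImplicit false

open MvPolynomial

namespace Groth.Agent.PlaneFF17

variable {k : Type*} [Field k]

attribute [local instance] MvPolynomial.gradedAlgebra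

theorem comp_mul {σ : Type*} {i n : ℕ} (h : i ≤ n) {p : MvPolynomial σ k} (hp : p.IsHomogeneous i)
    (q : MvPolynomial σ k) : homogeneousComponent n (p * q) = p * homogeneousComponent (n - i) q := by
  have h1 := DirectSum.coe_decompose_mul_of_left_mem_of_le (homogeneousSubmodule σ k) (b := q) (n := n)
    ((mem_homogeneousSubmodule i p).2 hp) h
  exact (decomposition.decompose'_apply _ n).symm.trans (h1.trans (congrArg (p * ·) (decomposition.decompose'_apply _ _)))

theorem comp_mul_zero {σ : Type*} {i n : ℕ} (h : n < i) {p : MvPolynomial σ k} (hp : p.IsHomogeneous i)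
    (q : MvPolynomial σ k) : homogeneousComponent n (p * q) = 0 := by
  have h1 := DirectSum.coe_decompose_mul_of_left_mem_of_not_le (homogeneousSubmodule σ k) (b := q) (n := n)
    ((mem_homogeneousSubmodule i p).2 hp) (not_le.2 h)
  exact (decomposition.decompose'_apply _ n).symm.trans h1

theorem finrank_forms (n : ℕ) :
    Module.finrank k (homogeneousSubmodule (Fin 3) k n) = (n + 2).choose 2 := by
  classical
  let T := (Finset.univ : Finset (Fin 3)).finsuppAntidiag n
  have hset : {d : Fin 3 →₀ ℕ | d.degree = n} = (T : Set (Fin 3 →₀ ℕ)) := by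
    ext d
    simp [T, Finset.mem_finsuppAntidiag, Finsupp.degree_eq_sum]
  have he : homogeneousSubmodule (Fin 3) k n = restrictSupport k (T : Set (Fin 3 →₀ ℕ)) := by
    rw [homogeneousSubmodule_eq_finsupp_supported, hset]; rfl
  rw [he, Module.finrank_eq_card_basis (basisRestrictSupport k (T : Set (Fin 3 →₀ ℕ)))]
  erw [Fintype.card_coe, Finset.card_finsuppAntidiag_nat_eq_choose]
  · rw [Finset.card_univ, Fintype.card_fin, show 3 + n - 1 = n + 2 by omega, ← Nat.choose_symm_add]

/-- `X₂ + X₁ ^ m` is prime. -/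
theorem prime_G (m : ℕ) : Prime (X 2 + X 1 ^ m : MvPolynomial (Fin 3) k) := by
  let e : MvPolynomial (Fin 3) k ≃ₐ[k] MvPolynomial (Fin 3) k :=
    AlgEquiv.ofAlgHom (aeval ![X 0, X 1, X 2 + X 1 ^ m]) (aeval ![X 0, X 1, X 2 - X 1 ^ m])
      (algHom_ext fun i => by fin_cases i <;> simp)
      (algHom_ext fun i => by fin_cases i <;> simp)
  have h := (MulEquiv.prime_iff e.toMulEquiv (p := (X 2 : MvPolynomial (Fin 3) k))).2 X_prime
  simpa [e] using h

theorem G_dvd_G {m n : ℕ} (h : (X 2 + X 1 ^ m : MvPolynomial (Fin 3) k) ∣ X 2 + X 1 ^ n) : m = n := by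
  have h1 := map_dvd (aeval ![(0 : Polynomial k), Polynomial.X, -Polynomial.X ^ m]) h
  simp only [map_add, map_pow, aeval_X, Matrix.cons_val, neg_add_cancel, zero_dvd_iff] at h1
  rw [neg_add_eq_sub, sub_eq_zero] at h1
  simpa using (congrArg Polynomial.natDegree h1).symm

/-- A polynomial `X₂ + X₁ ^ m`, `m ≥ 1`, prime to a given nonzero one. -/
theorem exists_coprime (f₀ : MvPolynomial (Fin 3) k) (hf : f₀ ≠ 0) :
    ∃ m, 1 ≤ m ∧ IsRelPrime f₀ (X 2 + X 1 ^ m) := by
  classical
  by_contra hc
  have hdvd : ∀ m : ℕ, ∃ q ∈ UniqueFactorizationMonoid.factors f₀,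
      Associated (X 2 + X 1 ^ (m + 1) : MvPolynomial (Fin 3) k) q := fun m => by
    refine UniqueFactorizationMonoid.exists_mem_factors_of_dvd hf (prime_G _).irreducible ?_
    by_contra hn
    exact hc ⟨m + 1, by omega, ((prime_G _).irreducible.isRelPrime_iff_not_dvd.2 hn).symm⟩
  choose q hq hass using hdvd
  obtain ⟨m, n, hmn, heq⟩ := Finite.exists_ne_map_eq_of_infinite
    (fun m : ℕ => (⟨q m, Multiset.mem_toFinset.2 (hq m)⟩ : (UniqueFactorizationMonoid.factors f₀).toFinset))
  have h : q m = q n := congrArg Subtype.val heq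
  have := G_dvd_G ((hass m).dvd.trans ((h ▸ (hass n).symm).dvd))
  omega

/-- The ideal `(f, X₀ ^ N)` is saturated. -/
theorem mem_of_pow {f : MvPolynomial (Fin 3) k} (hf : ¬ X 0 ∣ f) (N : ℕ) {B : MvPolynomial (Fin 3) k}
    (h1 : X 1 ^ N * B ∈ Ideal.span {f, X 0 ^ N}) (h2 : X 2 ^ N * B ∈ Ideal.span {f, X 0 ^ N}) :
    B ∈ Ideal.span {f, X 0 ^ N} := by
  classical
  let π : MvPolynomial (Fin 3) k →ₐ[k] MvPolynomial (Fin 3) k := aeval ![0, X 1, X 2]
  have hπ : ∀ p, (X 0 : MvPolynomial (Fin 3) k) ∣ p - π p := fun p => by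
    induction p using MvPolynomial.induction_on with
    | C c => simp [π]
    | add p q hp hq => rw [map_add, add_sub_add_comm]; exact dvd_add hp hq
    | mul_X p i hp =>
      rw [map_mul]
      have hi : (X 0 : MvPolynomial (Fin 3) k) ∣ X i - π (X i) := by fin_cases i <;> simp [π]
      rw [show p * X i - π p * π (X i) = (p - π p) * X i + π p * (X i - π (X i)) by ring]
      exact dvd_add (dvd_mul_of_dvd_left hp _) (dvd_mul_of_dvd_right hi _)
  have hker : ∀ p, π p = 0 → (X 0 : MvPolynomial (Fin 3) k) ∣ p := fun p hp => by simpa [hp] using hπ p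
  obtain ⟨m, hm, hG⟩ := exists_coprime (π f) (fun h => hf (hker f h))
  set G : MvPolynomial (Fin 3) k := X 2 + X 1 ^ m with hGdef
  have hπG : π G = G := by simp [π, hGdef]
  have hππ : ∀ p, π (π p) = π p := fun p => by
    show (π.comp π) p = π p
    congr 1
    exact algHom_ext fun i => by fin_cases i <;> simp [π]
  have key : ∀ (M : ℕ) (B : MvPolynomial (Fin 3) k), G * B ∈ Ideal.span {f, X 0 ^ M} →
      B ∈ Ideal.span {f, X 0 ^ M} := by
    intro M
    induction M with
    | zero => intro B _; exact Ideal.mem_span_pair.2 ⟨0, B, by simp⟩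
    | succ M ih =>
      intro B hB
      obtain ⟨C, D, hCD⟩ := Ideal.mem_span_pair.1 hB
      have h0 : π C * π f = G * π B := by
        have := congrArg π hCD
        simpa [π, hπG, map_mul] using this
      obtain ⟨E, hE⟩ := hG.dvd_of_dvd_mul_left (show π f ∣ G * π B from ⟨π C, by rw [← h0]; ring⟩)
      obtain ⟨B', hB'⟩ : (X 0 : MvPolynomial (Fin 3) k) ∣ B - π E * f := hker _ (by
        have h := hππ B
        rw [hE, map_mul, hππ] at h
        rw [map_sub, map_mul, hππ, hE]
        linear_combination -h)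
      have h1 : G * B' * X 0 = (C - G * π E) * f + D * X 0 ^ (M + 1) := by
        linear_combination -hCD - G * hB'
      obtain ⟨C', hC'⟩ : (X 0 : MvPolynomial (Fin 3) k) ∣ C - G * π E :=
        (X_prime.dvd_or_dvd (show (X 0 : MvPolynomial (Fin 3) k) ∣ (C - G * π E) * f from
          ⟨G * B' - D * X 0 ^ M, by linear_combination -h1⟩)).resolve_right hf
      have h2 : G * B' = C' * f + D * X 0 ^ M := mul_right_cancel₀ (X_ne_zero (0 : Fin 3))
        (by linear_combination h1 + f * hC')
      obtain ⟨u, v, huv⟩ := Ideal.mem_span_pair.1 (ih B' (Ideal.mem_span_pair.2 ⟨C', D, h2.symm⟩))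
      exact Ideal.mem_span_pair.2 ⟨π E + X 0 * u, v, by linear_combination X 0 * huv - hB'⟩
  have hGN : G ^ (N + N) * B ∈ Ideal.span {f, X 0 ^ N} := by
    rw [hGdef, add_pow, Finset.sum_mul]
    refine Ideal.sum_mem _ fun i hi => ?_
    rcases le_or_gt N i with h | h
    · obtain ⟨c, rfl⟩ := Nat.exists_eq_add_of_le h
      rw [pow_add, show ∀ a b c d e : MvPolynomial (Fin 3) k, a * b * c * d * e = (b * c * d) * (a * e) from
        fun a b c d e => by ring]
      exact Ideal.mul_mem_left _ _ h2
    · have : N ≤ m * (N + N - i) := le_trans (by omega) (Nat.le_mul_of_pos_left _ hm)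
      obtain ⟨c, hc⟩ := Nat.exists_eq_add_of_le this
      rw [← pow_mul, hc, pow_add, show ∀ a b c d e : MvPolynomial (Fin 3) k,
        a * (b * c) * d * e = (a * c * d) * (b * e) from fun a b c d e => by ring]
      exact Ideal.mul_mem_left _ _ h1
  have hpow : ∀ (j : ℕ) (B : MvPolynomial (Fin 3) k), G ^ j * B ∈ Ideal.span {f, X 0 ^ N} →
      B ∈ Ideal.span {f, X 0 ^ N} := by
    intro j
    induction j with
    | zero => intro B hB; simpa using hB
    | succ j ih => intro B hB; exact ih B (key N _ (by rw [← mul_assoc, ← pow_succ']; exact hB))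
  exact hpow _ B hGN

end Groth.Agent.PlaneFF17
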