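import Groth.Agent.Lib.CIProj14.Hyp
import Groth.Agent.Lib.CurveCoh17.LES
import Groth.Agent.Lib.CurveCoh17.P1Genus
import Groth.Agent.Lib.CurveOm17.AnyField
import Groth.Agent.Lib.AmpleFin18.PushEuler
import Groth.Agent.Lib.TensorMod.IdealMod
import Groth.Agent.Lib.PlaneFF17.Poly
import Groth.Agent.S0843
import Groth.Agent.S0844
import Groth.Agent.S0845

/-!
# Cohomology of plane curves
-/

set_option linter.style.haveILetI false
set_option autoImplicit false
set_option maxHeartbeats 1000000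

universe u

open CategoryTheory CategoryTheory.Limits AlgebraicGeometry TopologicalSpace

namespace Groth.Agent.PlaneFF17

open Groth.Agent.CurveCoh17

variable {k : Type u} [Field k]

theorem cohomology {d : ℕ} (hd : 1 ≤ d) (G : LefPen.Form 2 k d) (hG : G ≠ 0)
    [(LefPen.hypIdeal G).subscheme.Over (Spec (CommRingCat.of k))]
    (hinst : (LefPen.hypIdeal G).subscheme ↘ Spec (CommRingCat.of k) =
      (LefPen.hypIdeal G).subschemeι ≫ CohB1.ProjSpace.toSpec 2 k) :
    Module.finrank k (Coh.HH (LefPen.hypIdeal G).subscheme (Coh.structureModule (LefPen.hypIdeal G).subscheme) 0) = 1 ∧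
      ConnectedSpace ↥(LefPen.hypIdeal G).subscheme ∧
      Module.finrank k (Coh.HH (LefPen.hypIdeal G).subscheme (Coh.structureModule (LefPen.hypIdeal G).subscheme) 1) =
        (d - 1) * (d - 2) / 2 := by
  letI : (CohB1.ProjSpace 2 k).Over (Spec (CommRingCat.of k)) := ⟨CohB1.ProjSpace.toSpec 2 k⟩
  let S : ShortComplex (CohB1.ProjSpace 2 k).Modules :=
    ShortComplex.mk (ClSub.idealModι (LefPen.hypIdeal G)) (ClSub.toSubscheme (LefPen.hypIdeal G)) (kernel.condition _)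
  have hS : S.ShortExact := M2.shortExact_idealMod (LefPen.hypIdeal G)
  obtain ⟨e₁⟩ := CIProj14.nonempty_idealMod_hypIdeal G (fun h => hG (Subtype.ext h))
  obtain ⟨e₀⟩ := Twist.nonempty_twist_zero_iso (CohB1.polyGrading 2 k)
  let E₁ : ∀ n, Coh.HH (CohB1.ProjSpace 2 k) S.X₁ n ≃ₗ[k]
      Coh.HH (CohB1.ProjSpace 2 k) (_root_.Twist.twistProjSpace 2 k (-(d : ℤ))) n := fun n => hequiv k e₁ n
  let E₂ : ∀ n, Coh.HH (CohB1.ProjSpace 2 k) (_root_.Twist.twistProjSpace 2 k ((0 : ℕ) : ℤ)) n ≃ₗ[k]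
      Coh.HH (CohB1.ProjSpace 2 k) S.X₂ n := fun n => hequiv k e₀ n
  have h10 : Subsingleton (Coh.HH (CohB1.ProjSpace 2 k) S.X₁ 0) :=
    haveI := Groth.Agent.S0844.result k 2 (-(d : ℤ)) 0 (by omega) (by omega)
    (E₁ 0).toEquiv.subsingleton
  have h11 : Subsingleton (Coh.HH (CohB1.ProjSpace 2 k) S.X₁ 1) :=
    haveI := Groth.Agent.S0844.result k 2 (-(d : ℤ)) 1 (by omega) (by omega)
    (E₁ 1).toEquiv.subsingleton
  have h21 : Subsingleton (Coh.HH (CohB1.ProjSpace 2 k) S.X₂ 1) :=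
    haveI := Groth.Agent.S0844.result k 2 ((0 : ℕ) : ℤ) 1 (by omega) (by omega)
    (E₂ 1).symm.toEquiv.subsingleton
  have h22 : Subsingleton (Coh.HH (CohB1.ProjSpace 2 k) S.X₂ 2) :=
    haveI := Groth.Agent.S0844.result k 2 ((0 : ℕ) : ℤ) 2 (by omega) (by omega)
    (E₂ 2).symm.toEquiv.subsingleton
  have hb0 : Function.Bijective (hmap k S.g 0) := by
    refine ⟨(injective_iff_map_eq_zero _).2 fun x hx => ?_, fun x => ?_⟩
    · obtain ⟨y, rfl⟩ := (exact_hmap_hmap (A := k) hS 0 x).1 hx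
      rw [Subsingleton.elim y 0, map_zero]
    · exact (exact_hmap_hdelta (A := k) hS 0 x).1 (Subsingleton.elim _ _)
  have hb1 : Function.Bijective (hdelta k hS 1) := by
    refine ⟨(injective_iff_map_eq_zero _).2 fun x hx => ?_, fun x => ?_⟩
    · obtain ⟨y, rfl⟩ := (exact_hmap_hdelta (A := k) hS 1 x).1 hx
      rw [Subsingleton.elim y 0, map_zero]
    · exact (exact_hdelta_hmap (A := k) hS 1 x).1 (Subsingleton.elim _ _)
  have hpush : ∀ n, Module.finrank k (Coh.HH (CohB1.ProjSpace 2 k) S.X₃ n) =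
      Module.finrank k (Coh.HH (LefPen.hypIdeal G).subscheme (Coh.structureModule (LefPen.hypIdeal G).subscheme) n) := fun n => by
    obtain ⟨e⟩ := AmpleFin18.nonempty_HH_push (k := k) (LefPen.hypIdeal G).subschemeι hinst.symm _
      (M1.isQCoh_structureModule (LefPen.hypIdeal G).subscheme) n
    exact e.finrank_eq
  have hh0 : Module.finrank k (Coh.HH (LefPen.hypIdeal G).subscheme (Coh.structureModule (LefPen.hypIdeal G).subscheme) 0) = 1 := by
    rw [← hpush, ← (LinearEquiv.ofBijective _ hb0).finrank_eq, ← (E₂ 0).finrank_eq]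
    obtain ⟨e⟩ := Groth.Agent.S0843.result k 2 0
    exact e.finrank_eq.trans ((finrank_forms (k := k) 0).trans (by norm_num))
  refine ⟨hh0, CurveOm17.connectedSpace_of_h0 hh0, ?_⟩
  rw [← hpush, (LinearEquiv.ofBijective _ hb1).finrank_eq, (E₁ 2).finrank_eq]
  rcases lt_or_ge d 3 with h3 | h3
  · haveI := Groth.Agent.S0844.result k 2 (-(d : ℤ)) 2 (by omega) (by omega)
    rw [Module.finrank_zero_of_subsingleton]
    obtain e | e : d - 2 = 0 ∨ d - 1 = 0 := by omega
    · rw [e]; simp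
    · rw [e]; simp
  · obtain ⟨j, rfl⟩ : ∃ j, d = 3 + j := ⟨d - 3, by omega⟩
    have e3 : (-((3 + j : ℕ) : ℤ)) = -(((2 : ℕ) : ℤ) + 1 + (j : ℤ)) := by push_cast; ring
    rw [e3]
    obtain ⟨e⟩ := Groth.Agent.S0845.result k 2 j
    refine e.finrank_eq.trans ((finrank_forms (k := k) j).trans ?_)
    rw [Nat.choose_two_right]
    congr 1
    rw [show 3 + j - 1 = j + 2 by omega, show 3 + j - 2 = j + 1 by omega, show j + 2 - 1 = j + 1 by omega]

end Groth.Agent.PlaneFF17
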