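import Groth.Agent.Lib.PlaneFF17.Curve
import Groth.Agent.Lib.PlaneFF17.Coh
import Groth.Agent.Lib.LefPen13.Chart
import Groth.Agent.Lib.Twist.GlobalProjSpace
import Groth.Agent.Lib.GenusFF17.Main
import Groth.Agent.Lib.VarDim.Normal
import Groth.Agent.Lib.VB17.Setup

/-!
# The function field of a smooth plane curve
-/

set_option linter.style.haveILetI false
set_option autoImplicit false
set_option maxHeartbeats 1600000
set_option backward.isDefEq.respectTransparency false
set_option backward.isDefEq.respectTransparency.types false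

universe u

open CategoryTheory CategoryTheory.Limits AlgebraicGeometry TopologicalSpace MvPolynomial

noncomputable section

namespace Groth.Agent.PlaneFF17

attribute [local instance] MvPolynomial.gradedAlgebra

open Groth.Agent

variable {k : Type u} [Field k] {n : ℕ}

local notation "GR" => CohB1.polyGrading n k

theorem dh_C (j : Fin (n + 1)) (c : k) :
    LefPen13.dh k n j (C c) = (CohB1.ProjSpace n k).presheaf.map (homOfLE (le_top : LefPen.chart n k j ≤ ⊤)).op
      ((CohB1.ProjSpace.toSpec n k).appTop ((Scheme.ΓSpecIso (CommRingCat.of k)).inv c)) := by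
  have h := LefPen13.dehom_eq_dh (k := k) (⟨C c, isHomogeneous_C _ _⟩ : LefPen.Form n k 0) j
  rw [← h]
  show _ = (CohB1.ProjSpace n k).presheaf.map (homOfLE (le_top : LefPen.chart n k j ≤ ⊤)).op (Twist.constFun n k c)
  refine Twist.sectionO_ext (𝒜 := GR) fun x hx => ?_
  erw [Twist.valO_map]
  simp only [LefPen.dehom]
  erw [Twist.valO_awayToSection GR (LefPen.X_mem n k j) _ x hx (Twist.pow_notMem GR hx 0)]
  refine (?_ : _ = _).trans (Twist.valO_constFun n k c x).symm
  simp only [pow_zero]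

theorem dh_inj_of_isHomogeneous (j : Fin (n + 1)) {F : MvPolynomial (Fin (n + 1)) k} {m : ℕ}
    (hF : F.IsHomogeneous m) (h : ProjSpace.dehom k j F = 0) : F = 0 := by
  have h1 := ProjSpace.val_toAway_dehom k j hF
  rw [h, map_zero, HomogeneousLocalization.val_zero, zero_mul] at h1
  exact IsLocalization.injective (Localization.Away (X j : MvPolynomial (Fin (n + 1)) k))
    (powers_le_nonZeroDivisors_of_noZeroDivisors (X_ne_zero j)) (h1.symm.trans (map_zero _).symm)

theorem coordV_injective (j : Fin (n + 1)) : Function.Injective (Bertini13.coordV k n j) := by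
  have h : Function.Bijective (Proj.awayToSection GR (X j)).hom :=
    (ConcreteCategory.isIso_iff_bijective (Proj.basicOpenIsoAway GR (X j) (ProjSpace.X_mem' n k j) Nat.one_pos).hom).1
      inferInstance
  exact h.1.comp (ProjSpace.toAway_bijective k j).injective

/-- Divisibility on a chart is divisibility up to a power of the coordinate. -/
theorem exists_dvd_of_mem_span (j : Fin (n + 1)) {d m : ℕ} (f : LefPen.Form n k d) {F : MvPolynomial (Fin (n + 1)) k}
    (hF : F.IsHomogeneous m) (h : LefPen13.dh k n j F ∈ Ideal.span {LefPen.dehom f j}) :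
    ∃ N, f.1 ∣ X j ^ N * F := by
  obtain ⟨c, hc⟩ := Ideal.mem_span_singleton.1 h
  obtain ⟨Q, rfl⟩ := LefPen13.dh_surjective k n j c
  rw [LefPen13.dehom_eq_dh, ← map_mul] at hc
  have hc' : ProjSpace.dehom k j F = ProjSpace.dehom k j (f.1 * Q) := coordV_injective j hc
  let M := max Q.totalDegree m
  let Q' : MvPolynomial (Fin (n + 1)) k :=
    ∑ i ∈ Finset.range (M + 1), homogeneousComponent i Q * X j ^ (M - i)
  have hQ' : Q'.IsHomogeneous M := IsHomogeneous.sum _ _ _ fun i hi => by
    have h1 := (homogeneousComponent_isHomogeneous i Q).mul (isHomogeneous_X_pow (R := k) j (M - i))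
    rwa [Nat.add_sub_cancel' (Nat.lt_succ_iff.1 (Finset.mem_range.1 hi))] at h1
  have hQd : ProjSpace.dehom k j Q' = ProjSpace.dehom k j Q := by
    conv_rhs => rw [← sum_homogeneousComponent Q, map_sum]
    rw [map_sum]
    simp only [map_mul, map_pow, ProjSpace.dehom_X_self, one_pow, mul_one]
    refine (Finset.sum_subset (Finset.range_mono (by omega)) fun i _ hi => ?_).symm
    rw [homogeneousComponent_eq_zero i Q (by simpa using hi), map_zero]
  have hmM : m ≤ d + M := le_add_left (le_max_right _ _)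
  have h0 : X j ^ (d + M - m) * F - f.1 * Q' = 0 := by
    refine dh_inj_of_isHomogeneous j (m := d + M) (IsHomogeneous.sub ?_ ((show f.1.IsHomogeneous d from f.2).mul hQ')) ?_
    · have h1 := (isHomogeneous_X_pow (R := k) j (d + M - m)).mul hF
      rwa [Nat.sub_add_cancel hmM] at h1
    · rw [map_sub, map_mul, map_mul, map_pow, ProjSpace.dehom_X_self, one_pow, one_mul, hQd, hc', map_mul, sub_self]
  exact ⟨d + M - m, Q', sub_eq_zero.1 h0⟩

theorem dvd_of_dvd_pow_mul {f F : MvPolynomial (Fin (n + 1)) k} {i j : Fin (n + 1)} (hij : i ≠ j) {N M : ℕ}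
    (h1 : f ∣ X i ^ N * F) (h2 : f ∣ X j ^ M * F) : f ∣ F := by
  obtain ⟨u, hu⟩ := h1
  obtain ⟨w, hw⟩ := h2
  rcases eq_or_ne f 0 with rfl | hf
  · rw [zero_mul] at hu
    exact ((mul_eq_zero.1 hu).resolve_left (pow_ne_zero _ (X_ne_zero i))).symm ▸ dvd_rfl
  have hnd : ¬ (X i : MvPolynomial (Fin (n + 1)) k) ∣ X j ^ M := fun h => by
    have h' := (X_prime (R := k) (i := i)).dvd_of_dvd_pow h
    exact hij (X_dvd_X.1 h' : i = j)
  have h3 : X j ^ M * u = X i ^ N * w := mul_left_cancel₀ hf (by linear_combination X i ^ N * hw - X j ^ M * hu)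
  obtain ⟨u', rfl⟩ := (X_prime (R := k) (i := i)).pow_dvd_of_dvd_mul_left N hnd ⟨w, h3⟩
  exact ⟨u', mul_left_cancel₀ (pow_ne_zero N (X_ne_zero i)) (by linear_combination hu)⟩

section curve

attribute [local instance] Curv2.stalkAlgebra

variable {d : ℕ} (f : LefPen.Form 2 k d)


theorem topologicalKrullDim_hyp (hd : 1 ≤ d) (hf : f ≠ 0) :
    topologicalKrullDim ↥(LefPen.hypIdeal f).subscheme = 1 := by
  let PP := ProjectiveSpectrum (CohB1.polyGrading 2 k)
  let Z : Set PP := ProjectiveSpectrum.zeroLocus (CohB1.polyGrading 2 k) (Set.range fun _ : Fin 1 => f.1)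
  have hZc : IsClosed Z := ProjectiveSpectrum.isClosed_zeroLocus _ _
  have hrange : Set.range (LefPen.hypIdeal f).subschemeι = Z := by
    rw [show Set.range (LefPen.hypIdeal f).subschemeι = ((LefPen.hypIdeal f).support : Set ↥(CohB1.ProjSpace 2 k)) from
      (LefPen.hypIdeal f).range_subschemeι, ProjDim18.support_hypIdeal]
    ext x
    rw [SetLike.mem_coe, ProjDim18.mem_hypZero_iff]
    exact ⟨fun h => by rintro _ ⟨_, rfl⟩; exact h, fun h => h ⟨0, rfl⟩⟩
  rw [IsHomeomorph.topologicalKrullDim_eq _ (((LefPen.hypIdeal f).subschemeι).isEmbedding.toHomeomorph).isHomeomorph,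
    IsHomeomorph.topologicalKrullDim_eq _ (Homeomorph.setCongr hrange).isHomeomorph]
  haveI : IsIntegral (CohB1.ProjSpace 2 k) := RegExt.isIntegral_projSpace 2 k
  have huniv : topologicalKrullDim ↥(Set.univ : Set PP) = 2 := by
    rw [IsHomeomorph.topologicalKrullDim_eq _ (Homeomorph.Set.univ PP).isHomeomorph]
    exact (Groth.Agent.S10829.result k 2).trans (by rfl)
  refine le_antisymm ?_ ?_
  · by_contra hlt
    obtain ⟨x, hx, hx2⟩ := ProjDim18.exists_coheight_ge k 2 hZc (r := 2) (by
      rcases le_or_gt (2 : WithBot ℕ∞) (topologicalKrullDim ↥Z) with h | h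
      · exact_mod_cast h
      · refine absurd ?_ hlt
        revert h
        generalize topologicalKrullDim ↥Z = e
        intro h
        induction e using WithBot.recBotCoe with
        | bot => exact bot_le
        | coe e =>
          have h' : e < ((2 : ℕ) : ℕ∞) := WithBot.coe_lt_coe.1 h
          induction e using ENat.recTopCoe with
          | top => exact absurd h' (not_lt.2 le_top)
          | coe m => exact WithBot.coe_le_coe.2 (Nat.cast_le.2 (Nat.lt_succ_iff.1 (Nat.cast_lt.1 h'))))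
    let η : PP := ProjDim18.mkPt k 2 ⊥ Ideal.isPrime_bot (Ideal.IsHomogeneous.bot _) (fun hle => by
      have : (MvPolynomial.X 0 : MvPolynomial (Fin 3) k) ∈ (⊥ : Ideal _) := hle (Ideal.subset_span ⟨0, rfl⟩)
      exact MvPolynomial.X_ne_zero 0 (Ideal.mem_bot.1 this))
    have hle : η ≤ x := (bot_le : (⊥ : Ideal _) ≤ x.asHomogeneousIdeal.toIdeal)
    have hne : η ≠ x := fun e => by
      have h1 : f.1 ∈ η.asHomogeneousIdeal := e ▸ hx ⟨0, rfl⟩
      exact hf (Subtype.ext (Ideal.mem_bot.1 h1))
    have h3 := Order.coheight_add_one_le (lt_of_le_of_ne hle hne)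
    have h4 := ProjDim18.coheight_le_dim k 2 (X := Set.univ) isClosed_univ (x := η) trivial
    rw [huniv] at h4
    have h5 : (3 : ℕ∞) ≤ Order.coheight η := le_trans (le_trans (by norm_num) (add_le_add hx2 le_rfl)) h3
    have h6 : ((3 : ℕ∞) : WithBot ℕ∞) ≤ (2 : ℕ∞) := (WithBot.coe_le_coe.2 h5).trans h4
    exact absurd (WithBot.coe_le_coe.1 h6) (by norm_num)
  · obtain ⟨h1, h2⟩ := ProjDim18.codim_components_inter_zeroLocus k 2 Set.univ isClosed_univ
      (IrreducibleSpace.isIrreducible_univ ↥(CohB1.ProjSpace 2 k)) (fun _ : Fin 1 => f.1) (fun _ => d)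
      (fun _ => f.2) (fun _ => hd)
    rw [Set.univ_inter] at h1 h2
    obtain ⟨z, hz⟩ := h2 (by rw [huniv]; norm_num)
    have h3 := h1 _ (irreducibleComponent_mem_irreducibleComponents (⟨z, hz⟩ : Z))
    rw [huniv] at h3
    by_contra hlt
    have h4 := Topology.IsInducing.topologicalKrullDim_le (f := ((↑) : irreducibleComponent (⟨z, hz⟩ : Z) → Z)) Topology.IsInducing.subtypeVal
    have h5 : topologicalKrullDim ↥(irreducibleComponent (⟨z, hz⟩ : Z)) < 1 := h4.trans_lt (not_le.1 hlt)
    revert h3 h5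
    generalize topologicalKrullDim ↥(irreducibleComponent (⟨z, hz⟩ : Z)) = e
    intro h3 h5
    induction e using WithBot.recBotCoe with
    | bot => simp at h3
    | coe e =>
      have he : e = 0 := ENat.lt_one_iff_eq_zero.1 (WithBot.coe_lt_coe.1 h5)
      subst he
      norm_num at h3

variable [(LefPen.hypIdeal f).subscheme.Over (Spec (CommRingCat.of k))]

/-- A smooth plane curve is an integral curve. -/
theorem isIntegral_hyp (hd : 1 ≤ d) (hf : f ≠ 0)
    (hinst : (LefPen.hypIdeal f).subscheme ↘ Spec (CommRingCat.of k) = (LefPen.hypIdeal f).subschemeι ≫ CohB1.ProjSpace.toSpec 2 k)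
    [Smooth ((LefPen.hypIdeal f).subscheme ↘ Spec (CommRingCat.of k))] :
    IsProper ((LefPen.hypIdeal f).subscheme ↘ Spec (CommRingCat.of k)) ∧ IsIntegral (LefPen.hypIdeal f).subscheme := by
  haveI : IsProper (CohB1.ProjSpace.toSpec 2 k) := ProjSpace.isProper_toSpec 2 k
  haveI : IsProper ((LefPen.hypIdeal f).subscheme ↘ Spec (CommRingCat.of k)) := by rw [hinst]; infer_instance
  haveI := (cohomology hd f hf hinst).2.1
  haveI := VB17.isNoetherian_of_over (k := k) (X := (LefPen.hypIdeal f).subscheme)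
  exact ⟨inferInstance, VB17.isIntegral_of_connected fun x =>
    SmoothReg17.isDomain_stalk ((LefPen.hypIdeal f).subscheme ↘ Spec (CommRingCat.of k)) x⟩

/-- The function field of a smooth plane curve. -/
theorem exists_plane (hd : 2 ≤ d) (hf : f ≠ 0)
    (hinst : (LefPen.hypIdeal f).subscheme ↘ Spec (CommRingCat.of k) = (LefPen.hypIdeal f).subschemeι ≫ CohB1.ProjSpace.toSpec 2 k)
    [IsIntegral (LefPen.hypIdeal f).subscheme]
    [Smooth ((LefPen.hypIdeal f).subscheme ↘ Spec (CommRingCat.of k))] :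
    FunFld.IsFunctionField k (LefPen.hypIdeal f).subscheme.functionField ∧
      ∃ a : Fin 3 → (LefPen.hypIdeal f).subscheme.functionField, Plane (k := k) f.1 d a := by
  classical
  haveI := (isIntegral_hyp f (by omega) hf hinst).1
  obtain ⟨hK, -⟩ := GenusFF17.genus_functionField (topologicalKrullDim_hyp f (by omega) hf)
    (cohomology (by omega) f hf hinst).1
  have hf' : f.1 ≠ 0 := fun h => hf (Subtype.ext h)
  refine ⟨hK, ?_⟩
  let U : Fin 3 → (CohB1.ProjSpace 2 k).Opens := fun j => LefPen.chart 2 k j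
  let θ : ∀ j, MvPolynomial (Fin 3) k →+* Γ((LefPen.hypIdeal f).subscheme, (LefPen.hypIdeal f).subschemeι ⁻¹ᵁ U j) := fun j =>
    (((LefPen.hypIdeal f).subschemeι).app (U j)).hom.comp (LefPen13.dh k 2 j)
  have hθker : ∀ j F, θ j F = 0 ↔ LefPen13.dh k 2 j F ∈ Ideal.span {LefPen.dehom f j} := fun j F => by
    rw [← LefPen13.hypIdeal_chart f j, ← Scheme.IdealSheafData.ker_subschemeι_app]
    exact RingHom.mem_ker.symm
  have hθsurj : ∀ j, Function.Surjective (θ j) := fun j =>
    ((LefPen.hypIdeal f).subschemeι_app_surjective ⟨_, ProjDim18.isAffineOpen_chart j⟩).comp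
      (LefPen13.dh_surjective k 2 j)
  have hne : ∀ j, ∃ x : (LefPen.hypIdeal f).subscheme, x ∈ (LefPen.hypIdeal f).subschemeι ⁻¹ᵁ U j := by
    intro j
    by_contra hc
    push Not at hc
    have hsub : Subsingleton Γ((LefPen.hypIdeal f).subscheme, (LefPen.hypIdeal f).subschemeι ⁻¹ᵁ U j) := by
      have : (LefPen.hypIdeal f).subschemeι ⁻¹ᵁ U j = ⊥ := Opens.ext (Set.eq_empty_of_forall_notMem hc)
      rw [this]; infer_instance
    obtain ⟨N, hN⟩ := exists_dvd_of_mem_span j f (isHomogeneous_one (Fin 3) k)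
      ((hθker j 1).1 (Subsingleton.elim _ _))
    rw [mul_one] at hN
    obtain ⟨i, -, hi⟩ := (dvd_prime_pow (X_prime (R := k) (i := j)) N).1 hN
    have hdi : i = d := by
      have h1 : f.1.IsHomogeneous d := f.2
      obtain ⟨u, hu⟩ := hi.symm
      obtain ⟨c, hc0, hcu⟩ := MvPolynomial.isUnit_iff_eq_C_of_isReduced.1 u.isUnit
      rw [hcu] at hu
      have h2 : f.1.IsHomogeneous (i + 0) := hu ▸ (isHomogeneous_X_pow j i).mul (isHomogeneous_C _ c)
      simpa using h2.inj_right h1 hf'
    subst hdi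
    -- some other chart meets the curve, and there `x_j` is nilpotent
    obtain ⟨l, hl, hlj⟩ : ∃ l, (∃ x, x ∈ (LefPen.hypIdeal f).subschemeι ⁻¹ᵁ U l) ∧ l ≠ j := by
      obtain ⟨x⟩ := (cohomology (by omega) f hf hinst).2.1.toNonempty
      obtain ⟨l, hl⟩ := Opens.mem_iSup.1 (show x ∈ ⨆ j, LefPen13.V (LefPen.hypIdeal f).subschemeι j by rw [LefPen13.iSup_V]; trivial)
      exact ⟨l, ⟨x, hl⟩, fun e => hc x (e ▸ hl)⟩
    obtain ⟨x, hx⟩ := hl
    haveI : Nonempty ((LefPen.hypIdeal f).subschemeι ⁻¹ᵁ U l : (LefPen.hypIdeal f).subscheme.Opens) := ⟨⟨x, hx⟩⟩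
    haveI : IsDomain Γ((LefPen.hypIdeal f).subscheme, (LefPen.hypIdeal f).subschemeι ⁻¹ᵁ U l) := IsIntegral.component_integral _
    have h0 : θ l f.1 = 0 := (hθker l f.1).2 (by rw [LefPen13.dehom_eq_dh]; exact Ideal.subset_span rfl)
    obtain ⟨u, hu⟩ := hi.symm
    rw [← hu, map_mul, map_pow] at h0
    have hXj : θ l (X j) = 0 := by
      rcases mul_eq_zero.1 h0 with h | h
      · exact eq_zero_of_pow_eq_zero h
      · exact absurd h (u.isUnit.map (θ l)).ne_zero
    obtain ⟨M, w, hw⟩ := exists_dvd_of_mem_span l f (isHomogeneous_X k j) ((hθker l _).1 hXj)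
    have h2 : (X j : MvPolynomial (Fin 3) k) ^ 2 ∣ X l ^ M * X j :=
      ((pow_dvd_pow _ hd).trans hi.symm.dvd).trans ⟨w, hw⟩
    rw [pow_two, mul_dvd_mul_iff_right (X_ne_zero j)] at h2
    exact hlj (X_dvd_X.1 (X_prime.dvd_of_dvd_pow h2)).symm
  have hmem : ∀ j, genericPoint (LefPen.hypIdeal f).subscheme ∈ (LefPen.hypIdeal f).subschemeι ⁻¹ᵁ U j := fun j => by
    obtain ⟨x, hx⟩ := hne j
    exact (genericPoint_specializes x).mem_open ((LefPen.hypIdeal f).subschemeι ⁻¹ᵁ U j).2 hx
  haveI : ∀ j, Nonempty ((LefPen.hypIdeal f).subschemeι ⁻¹ᵁ U j : (LefPen.hypIdeal f).subscheme.Opens) := fun j => ⟨⟨_, hmem j⟩⟩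
  let γ : ∀ j, Γ((LefPen.hypIdeal f).subscheme, (LefPen.hypIdeal f).subschemeι ⁻¹ᵁ U j) →+* (LefPen.hypIdeal f).subscheme.functionField :=
    fun j => ((LefPen.hypIdeal f).subscheme.presheaf.germ _ _ (hmem j)).hom
  have hγ : ∀ j, Function.Injective (γ j) := fun j =>
    (LefPen.hypIdeal f).subscheme.germToFunctionField_injective ((LefPen.hypIdeal f).subschemeι ⁻¹ᵁ U j)
  let b : Fin 3 → Fin 3 → (LefPen.hypIdeal f).subscheme.functionField := fun j l => γ j (θ j (X l))
  have hb : ∀ j F, aeval (b j) F = γ j (θ j F) := fun j F => by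
    refine congrFun (congrArg DFunLike.coe (MvPolynomial.ringHom_ext (f := (aeval (b j)).toRingHom)
      (g := (γ j).comp (θ j)) (fun c => ?_) (fun l => ?_))) F
    · show aeval (b j) (C c) = γ j (θ j (C c))
      rw [aeval_C]
      show _ = γ j (((LefPen.hypIdeal f).subschemeι).app (U j) (LefPen13.dh k 2 j (C c)))
      rw [dh_C]
      erw [ConcreteCategory.congr_hom (((LefPen.hypIdeal f).subschemeι).naturality (homOfLE (le_top : U j ≤ ⊤)).op)
        ((CohB1.ProjSpace.toSpec 2 k).appTop ((Scheme.ΓSpecIso (CommRingCat.of k)).inv c))]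
      refine Eq.trans ?_ ((LefPen.hypIdeal f).subscheme.presheaf.germ_res_apply _ _ (hmem j) _).symm
      show Curv2.stalkMap k _ _ c = _
      rw [Curv2.stalkMap, RingHom.comp_apply, Coh.toGlobal, hinst, Scheme.Hom.comp_appTop]
      rfl
    · show aeval (b j) (X l) = γ j (θ j (X l))
      rw [aeval_X]
  have hone : ∀ j, b j j = 1 := fun j => by
    show γ j (θ j (X j)) = 1
    rw [RingHom.comp_apply, LefPen13.dh_X_self, map_one, map_one]
  have htrans : ∀ j i l, b j l = b i l * b j i := fun j i l => by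
    let W := U j ⊓ U i
    have h := LefPen13.dehom_res (⟨X l, LefPen.X_mem 2 k l⟩ : LefPen.Form 2 k 1) j i W inf_le_left inf_le_right
    rw [pow_one, LefPen13.dehom_eq_dh, LefPen13.dehom_eq_dh, LefPen13.dehom_eq_dh] at h
    have hmW : genericPoint (LefPen.hypIdeal f).subscheme ∈ (LefPen.hypIdeal f).subschemeι ⁻¹ᵁ W := ⟨hmem j, hmem i⟩
    have key : ∀ (m : Fin 3) (hm : W ≤ U m) (z : Γ(CohB1.ProjSpace 2 k, U m)),
        γ m (((LefPen.hypIdeal f).subschemeι).app (U m) z) = (LefPen.hypIdeal f).subscheme.presheaf.germ _ _ hmW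
          (((LefPen.hypIdeal f).subschemeι).app W ((CohB1.ProjSpace 2 k).presheaf.map (homOfLE hm).op z)) := fun m hm z => by
      erw [ConcreteCategory.congr_hom (((LefPen.hypIdeal f).subschemeι).naturality (homOfLE hm).op) z]
      exact ((LefPen.hypIdeal f).subscheme.presheaf.germ_res_apply _ _ hmW _).symm
    show γ j (((LefPen.hypIdeal f).subschemeι).app (U j) (LefPen13.dh k 2 j (X l))) = γ i (((LefPen.hypIdeal f).subschemeι).app (U i) (LefPen13.dh k 2 i (X l))) *
      γ j (((LefPen.hypIdeal f).subschemeι).app (U j) (LefPen13.dh k 2 j (X i)))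
    rw [key j inf_le_left, key i inf_le_right, key j inf_le_left, ← map_mul, ← map_mul]
    exact congrArg _ (congrArg _ h)
  let a := b 0
  have hane : ∀ i, a i ≠ 0 := fun i h => by
    have h1 := htrans i 0 i
    rw [hone, show b 0 i = a i from rfl, h, zero_mul] at h1
    exact one_ne_zero h1
  have hba : ∀ j l, b j l = a l / a j := fun j l => by
    have h1 := htrans j 0 j
    rw [hone] at h1
    rw [eq_div_iff (hane j), htrans j 0 l]
    linear_combination -(b 0 l) * h1
  have hscale : ∀ (j : Fin 3) (F : MvPolynomial (Fin 3) k) (n : ℕ), F.IsHomogeneous n →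
      aeval (b j) F = aeval a F / a j ^ n := fun j F n hF => by
    rw [show b j = fun l => a l / a j from funext (hba j)]
    exact aeval_div hF a j
  refine ⟨a, ⟨f.2, hd, hf', hane, fun m F hF => ?_, ?_, fun j z hz => ?_⟩⟩
  · constructor
    · intro h
      have h1 : ∀ j, ∃ N, f.1 ∣ X j ^ N * F := fun j => exists_dvd_of_mem_span j f hF ((hθker j F).1 (hγ j (by
        rw [← hb, hscale j F m hF, h, zero_div, map_zero])))
      obtain ⟨N, hN⟩ := h1 0
      obtain ⟨M, hM⟩ := h1 1
      exact dvd_of_dvd_pow_mul (by decide : (0 : Fin 3) ≠ 1) hN hM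
    · rintro ⟨q, rfl⟩
      rw [map_mul]
      have : aeval a f.1 = 0 := by
        show aeval (b 0) f.1 = 0
        rw [hb, (hθker 0 f.1).2 (by rw [LefPen13.dehom_eq_dh]; exact Ideal.subset_span rfl), map_zero]
      rw [this, zero_mul]
  · haveI := functionField_isFractionRing_of_isAffineOpen (LefPen.hypIdeal f).subscheme ((LefPen.hypIdeal f).subschemeι ⁻¹ᵁ U 0)
      ((ProjDim18.isAffineOpen_chart 0).preimage (LefPen.hypIdeal f).subschemeι)
    refine eq_top_iff.2 fun z _ => ?_
    obtain ⟨p, q, -, rfl⟩ := IsFractionRing.div_surjective (A := Γ((LefPen.hypIdeal f).subscheme, (LefPen.hypIdeal f).subschemeι ⁻¹ᵁ U 0)) z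
    have hall : ∀ p, γ 0 p ∈ IntermediateField.adjoin k (Set.range fun p : Fin 3 × Fin 3 => a p.1 / a p.2) := by
      intro p
      obtain ⟨F, rfl⟩ := hθsurj 0 p
      rw [← hb]
      induction F using MvPolynomial.induction_on with
      | C c => rw [aeval_C]; exact IntermediateField.algebraMap_mem _ c
      | add F G hF hG => rw [map_add]; exact add_mem hF hG
      | mul_X F l hF =>
        rw [map_mul, aeval_X, hba]
        exact mul_mem hF (IntermediateField.subset_adjoin k _ ⟨(l, 0), rfl⟩)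
    exact div_mem (hall p) (hall q)
  · let R := Algebra.adjoin k (Set.range fun l => a l / a j)
    have hRmem : ∀ s, γ j s ∈ R := fun s => by
      obtain ⟨F, rfl⟩ := hθsurj j s
      rw [← hb, show b j = fun l => a l / a j from funext (hba j)]
      show _ ∈ Algebra.adjoin k (Set.range fun l => a l / a j)
      rw [Algebra.adjoin_range_eq_range_aeval]
      exact ⟨F, rfl⟩
    have hRle : R.toSubring ≤ (γ j).range := by
      intro y hy
      have hy' : y ∈ Algebra.adjoin k (Set.range fun l => a l / a j) := hy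
      rw [Algebra.adjoin_range_eq_range_aeval] at hy'
      obtain ⟨F, rfl⟩ := hy'
      exact ⟨θ j F, by rw [← hb, show b j = fun l => a l / a j from funext (hba j)]; rfl⟩
    by_contra hn
    have hnm : z ∉ (⨅ V : {V : ValuationSubring (LefPen.hypIdeal f).subscheme.functionField //
        (R : Set (LefPen.hypIdeal f).subscheme.functionField) ⊆ (V.toSubring : Set (LefPen.hypIdeal f).subscheme.functionField)}, V.1.toSubring) := by
      rw [iInf_valuationSubring_superset]
      rintro ⟨p, hp, hpz⟩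
      refine hn ?_
      haveI := functionField_isFractionRing_of_isAffineOpen (LefPen.hypIdeal f).subscheme ((LefPen.hypIdeal f).subschemeι ⁻¹ᵁ U j)
        ((ProjDim18.isAffineOpen_chart j).preimage (LefPen.hypIdeal f).subschemeι)
      haveI : IsIntegrallyClosed Γ((LefPen.hypIdeal f).subscheme, (LefPen.hypIdeal f).subschemeι ⁻¹ᵁ U j) := VarDim.isIntegrallyClosed_sections
        (fun x => SmoothReg17.isIntegrallyClosed_stalk ((LefPen.hypIdeal f).subscheme ↘ Spec (CommRingCat.of k)) x) _
      have hcl : ∀ y : Subring.closure (R : Set (LefPen.hypIdeal f).subscheme.functionField), ∃ s, γ j s = y :=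
        fun y => hRle ((Subring.closure_le (t := R.toSubring)).2 le_rfl y.2)
      choose g hg using hcl
      let φ : Subring.closure (R : Set (LefPen.hypIdeal f).subscheme.functionField) →+*
          Γ((LefPen.hypIdeal f).subscheme, (LefPen.hypIdeal f).subschemeι ⁻¹ᵁ U j) :=
        { toFun := g
          map_one' := hγ j (by rw [hg, map_one]; rfl)
          map_mul' := fun x y => hγ j (by rw [hg, map_mul, hg, hg]; rfl)
          map_zero' := hγ j (by rw [hg, map_zero]; rfl)
          map_add' := fun x y => hγ j (by rw [hg, map_add, hg, hg]; rfl) }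
      have hint : _root_.IsIntegral Γ((LefPen.hypIdeal f).subscheme, (LefPen.hypIdeal f).subschemeι ⁻¹ᵁ U j) z := ⟨p.map φ, hp.map φ, by
        rw [Polynomial.eval₂_map]
        refine Eq.trans ?_ hpz
        exact congrArg (fun r => Polynomial.eval₂ r z p) (RingHom.ext fun y => hg y)⟩
      obtain ⟨s, hs⟩ := IsIntegrallyClosed.isIntegral_iff.1 hint
      exact hs ▸ hRmem s
    simp only [Subring.mem_iInf, not_forall] at hnm
    obtain ⟨⟨V, hV⟩, hzV⟩ := hnm
    obtain ⟨P, hP⟩ := (FunField.ff hK).exists_place_of_valuationSubring V (fun c => hV (R.algebraMap_mem c)) (fun hF => by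
      refine hzV ?_
      rcases V.mem_or_inv_mem z with h1 | h1
      · exact h1
      rcases eq_or_ne z 0 with rfl | hz0
      · exact zero_mem V
      obtain ⟨w, hw⟩ := hF.mul_inv_cancel (a := (⟨z⁻¹, h1⟩ : V)) (fun h0 => by simp [Subtype.ext_iff, hz0] at h0)
      have hw' : z⁻¹ * (w : _) = 1 := congrArg Subtype.val hw
      exact (inv_mul_eq_one₀ hz0).1 hw' ▸ w.2)
    refine hzV ?_
    change z ∈ V
    rw [← hP]
    refine hz P fun l => ?_
    have hl : a l / a j ∈ P.O := hP ▸ hV (Algebra.subset_adjoin ⟨l, rfl⟩)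
    exact hl

end curve

end Groth.Agent.PlaneFF17
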