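import Groth.Agent.Lib.PlaneFF17.Scheme
import Groth.Agent.Lib.LefPen13.Glue
import Groth.Agent.Lib.LefPen13.QuadDef
import Groth.Agent.S9441

/-!
# The Jacobian criterion for plane curves

The plane curve `f = 0` over a field is smooth exactly when `f` and its three partial derivatives
have no common non-trivial zero over an algebraic closure.
-/

set_option linter.style.haveILetI false
set_option autoImplicit false
set_option maxHeartbeats 800000

universe u

open CategoryTheory AlgebraicGeometry TopologicalSpace MvPolynomial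

noncomputable section

namespace Groth.Agent.PlaneFF17

variable {k : Type u} [Field k] {d : ℕ} (f : LefPen.Form 2 k d)

/-- The two equations of the `j`-th chart. -/
def chartEqs (j : Fin 3) : Fin 2 → MvPolynomial (Fin 3) k := ![f.1, X j - 1]

/-- Coordinates of a chart, as an algebra homomorphism. -/
def chartAlgHom (j : Fin 3) : MvPolynomial (Fin 3) k →ₐ[k] LefPen13.A (LefPen.hypIdeal f).subschemeι j :=
  { LefPen13.π (LefPen.hypIdeal f).subschemeι j with commutes' := fun _ => rfl }

theorem chartAlgHom_surjective (j : Fin 3) : Function.Surjective (chartAlgHom f j) :=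
  LefPen13.π_surjective (LefPen.hypIdeal f).subschemeι j

theorem ker_chartAlgHom (j : Fin 3) :
    RingHom.ker (chartAlgHom f j).toRingHom = Ideal.span (Set.range (chartEqs f j)) := by
  have hmem : ∀ F, chartAlgHom f j F = 0 ↔ LefPen13.dh k 2 j F ∈ Ideal.span {LefPen.dehom f j} := fun F => by
    rw [← LefPen13.hypIdeal_chart f j, ← Scheme.IdealSheafData.ker_subschemeι_app]
    exact RingHom.mem_ker.symm
  apply le_antisymm
  · intro F hF
    obtain ⟨c, hc⟩ := Ideal.mem_span_singleton'.1 ((hmem F).1 hF)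
    obtain ⟨G, rfl⟩ := LefPen13.dh_surjective k 2 j c
    have h0 : LefPen13.dh k 2 j (F - G * f.1) = 0 := by
      rw [map_sub, map_mul, ← LefPen13.dehom_eq_dh, hc, sub_self]
    obtain ⟨c', hc'⟩ := Ideal.mem_span_singleton'.1 (LefPen13.dh_injective j h0)
    rw [show F = G * chartEqs f j 0 + c' * chartEqs f j 1 by
      simp only [chartEqs, Matrix.cons_val_zero, Matrix.cons_val_one]; rw [hc']; ring]
    exact add_mem (Ideal.mul_mem_left _ _ (Ideal.subset_span ⟨0, rfl⟩))
      (Ideal.mul_mem_left _ _ (Ideal.subset_span ⟨1, rfl⟩))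
  · rw [Ideal.span_le]
    rintro _ ⟨i, rfl⟩
    fin_cases i
    · exact (hmem f.1).2 (by rw [LefPen13.dehom_eq_dh]; exact Ideal.subset_span rfl)
    · show chartAlgHom f j (X j - 1) = 0
      rw [map_sub, map_one]
      exact sub_eq_zero.2 (LefPen13.π_X_self (LefPen.hypIdeal f).subschemeι j)

/-- A chart is the complete intersection cut out by its two equations. -/
def chartEquiv (j : Fin 3) : Synt.RelGCIRing k 3 2 (chartEqs f j) ≃ₐ[k] LefPen13.A (LefPen.hypIdeal f).subschemeι j :=
  (Ideal.quotientEquivAlgOfEq k (ker_chartAlgHom f j).symm).trans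
    (Ideal.quotientKerAlgEquivOfSurjective (chartAlgHom_surjective f j))

theorem chartEquiv_mk (j : Fin 3) (F : MvPolynomial (Fin 3) k) :
    chartEquiv f j (Ideal.Quotient.mk _ F) = chartAlgHom f j F := rfl

theorem ringKrullDim_chart_le (hd : 1 ≤ d) (hf : f ≠ 0) (j : Fin 3) : ringKrullDim (LefPen13.A (LefPen.hypIdeal f).subschemeι j) ≤ 1 := by
  have hV := LefPen13.isAffineOpen_V (LefPen.hypIdeal f).subschemeι j
  rw [← PrimeSpectrum.topologicalKrullDim_eq_ringKrullDim, ← topologicalKrullDim_hyp f hd hf]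
  exact (hV.fromSpec.isOpenEmbedding.isInducing.topologicalKrullDim_le :)

theorem isRelGCI_chart (hd : 1 ≤ d) (hf : f ≠ 0) (j : Fin 3) :
    Synt.IsRelGCI k 3 2 (chartEqs f j) := by
  intro p hp
  refine ⟨by norm_num, ?_⟩
  let R := Synt.RelGCIRing k 3 2 (chartEqs f j)
  have hb : Function.Bijective (algebraMap k p.asIdeal.ResidueField) := by
    refine ⟨(algebraMap k p.asIdeal.ResidueField).injective, fun z => ?_⟩
    obtain ⟨a, b, -, rfl⟩ := IsFractionRing.div_surjective (A := k ⧸ p.asIdeal) z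
    obtain ⟨a, rfl⟩ := Ideal.Quotient.mk_surjective a
    obtain ⟨b, rfl⟩ := Ideal.Quotient.mk_surjective b
    exact ⟨a / b, by rw [map_div₀]; rfl⟩
  let e : p.asIdeal.Fiber R ≃ₐ[k] R :=
    (Algebra.TensorProduct.congr (AlgEquiv.ofBijective (Algebra.ofId k p.asIdeal.ResidueField) hb).symm AlgEquiv.refl).trans
      (Algebra.TensorProduct.lid k R)
  haveI : Nontrivial R := e.toEquiv.symm.nontrivial
  rw [ringKrullDim_eq_of_ringEquiv e.toRingEquiv]
  refine le_antisymm ?_ ?_
  · rw [ringKrullDim_eq_of_ringEquiv (chartEquiv f j).toRingEquiv]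
    exact (ringKrullDim_chart_le f hd hf j).trans (by norm_num)
  · obtain ⟨m, hm⟩ := Ideal.exists_maximal R
    exact le_trans (WithBot.coe_le_coe.mpr (CI2.le_height_maximal (Ideal.Quotient.mkₐ k _)
      Ideal.Quotient.mk_surjective (chartEqs f j) Ideal.mk_ker m)) (Ideal.height_le_ringKrullDim_of_ne_top hm.ne_top)

/-- Smoothness of a chart of a plane curve: no singular geometric point in the chart. -/
theorem smooth_chart_iff (hd : 1 ≤ d) (hf : f ≠ 0) (j : Fin 3) :
    Algebra.Smooth k (LefPen13.A (LefPen.hypIdeal f).subschemeι j) ↔ ∀ v : Fin 3 → AlgebraicClosure k, v j = 1 → aeval v f.1 = 0 →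
      ∃ l, aeval v (pderiv l f.1) ≠ 0 := by
  classical
  let R := Synt.RelGCIRing k 3 2 (chartEqs f j)
  have hR : Algebra.Smooth k (LefPen13.A (LefPen.hypIdeal f).subschemeι j) ↔ Algebra.Smooth k R :=
    ⟨fun h => by haveI := h; exact Algebra.Smooth.of_equiv (chartEquiv f j).symm,
      fun h => by haveI := h; exact Algebra.Smooth.of_equiv (chartEquiv f j)⟩
  haveI : Algebra.FinitePresentation k R :=
    Algebra.FinitePresentation.quotient (Submodule.fg_span (Set.finite_range _))
  have hcrit : ∀ (q : Ideal R) [q.IsPrime], Algebra.IsSmoothAt k q ↔ _ := fun q _ =>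
    Groth.Agent.S9441.result k 3 2 (chartEqs f j) (isRelGCI_chart f hd hf j) q
  rw [hR]
  constructor
  · intro h v hvj hv
    let χ : R →ₐ[k] AlgebraicClosure k := Ideal.Quotient.liftₐ _ (aeval v) fun a ha => by
      refine (Ideal.span_le (I := RingHom.ker (aeval (R := k) v).toRingHom)).2 ?_ ha
      rintro _ ⟨i, rfl⟩
      fin_cases i
      · exact hv
      · show aeval v (X j - 1) = 0
        simp [hvj]
    let q : PrimeSpectrum R := ⟨RingHom.ker χ, RingHom.ker_isPrime _⟩
    obtain ⟨I, hI⟩ := (@hcrit q.asIdeal q.isPrime).1 (Algebra.smoothLocus_eq_univ.ge (Set.mem_univ q))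
    by_contra hc
    push Not at hc
    refine hI ?_
    show χ (Ideal.Quotient.mk _ _) = 0
    show aeval v _ = 0
    rw [Matrix.det_fin_two]
    simp [chartEqs, hc]
  · intro h
    refine ⟨Algebra.smoothLocus_eq_univ_iff.mp (Set.eq_univ_iff_forall.mpr fun q => ?_), inferInstance⟩
    refine (hcrit q.asIdeal).2 ?_
    by_contra hc
    push Not at hc
    obtain ⟨m, hm, hqm⟩ := Ideal.exists_le_maximal q.asIdeal q.2.ne_top
    letI : Field (R ⧸ m) := Ideal.Quotient.field m
    haveI : Module.Finite k (R ⧸ m) := finite_of_finite_type_of_isJacobsonRing k (R ⧸ m)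
    haveI : Algebra.IsAlgebraic k (R ⧸ m) := inferInstance
    let σ : (R ⧸ m) →ₐ[k] AlgebraicClosure k := IsAlgClosed.lift
    let χ : R →ₐ[k] AlgebraicClosure k := σ.comp (Ideal.Quotient.mkₐ k m)
    let v : Fin 3 → AlgebraicClosure k := fun l => χ (Ideal.Quotient.mk _ (X l))
    have hχ : ∀ F, χ (Ideal.Quotient.mk _ F) = aeval v F := fun F =>
      AlgHom.congr_fun (MvPolynomial.algHom_ext (f := χ.comp (Ideal.Quotient.mkₐ k _)) (g := aeval v)
        fun l => (aeval_X (R := k) v l).symm) F
    have hrel : ∀ i, aeval v (chartEqs f j i) = 0 := fun i => by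
      rw [← hχ, Ideal.Quotient.eq_zero_iff_mem.2
        (Ideal.subset_span (s := Set.range (chartEqs f j)) ⟨i, rfl⟩ : chartEqs f j i ∈ Ideal.span (Set.range (chartEqs f j))), map_zero]
    have hvj : v j = 1 := sub_eq_zero.1 (by simpa [chartEqs] using hrel 1)
    have hv : aeval v f.1 = 0 := hrel 0
    have hl : ∀ l, l ≠ j → aeval v (pderiv l f.1) = 0 := fun l hl => by
      let I : Fin 2 ↪ Fin 3 := ⟨![l, j], fun a b e => by fin_cases a <;> fin_cases b <;> simp_all [eq_comm]⟩
      have h1 := hqm (hc I)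
      have h2 : χ (Ideal.Quotient.mk _ (Matrix.det (Matrix.of fun i' i => pderiv (I i) (chartEqs f j i')))) = 0 := by
        show σ (Ideal.Quotient.mk m _) = 0
        rw [Ideal.Quotient.eq_zero_iff_mem.2 h1, map_zero]
      rw [hχ, Matrix.det_fin_two] at h2
      have hI0 : I 0 = l := rfl
      have hI1 : I 1 = j := rfl
      simpa [hI0, hI1, chartEqs, pderiv_X_of_ne hl.symm] using h2
    obtain ⟨l, hl'⟩ := h v hvj hv
    refine hl' ?_
    by_cases e : l = j
    · subst e
      have hE := congrArg (aeval v) f.2.sum_X_mul_pderiv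
      rw [map_sum, map_nsmul, hv, smul_zero, Finset.sum_eq_single l
        (fun b _ hb => by rw [map_mul, hl b hb, mul_zero]) (by simp), map_mul, aeval_X, hvj, one_mul] at hE
      exact hE
    · exact hl l e

/-- The Jacobian criterion for a plane curve. -/
theorem smooth_iff (hd : 1 ≤ d) (hf : f ≠ 0) :
    Smooth ((LefPen.hypIdeal f).subschemeι ≫ CohB1.ProjSpace.toSpec 2 k) ↔ ∀ v : Fin 3 → AlgebraicClosure k, v ≠ 0 → aeval v f.1 = 0 →
      ∃ l, aeval v (pderiv l f.1) ≠ 0 := by
  constructor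
  · intro h v hv hv0
    obtain ⟨j, hj⟩ := Function.ne_iff.1 hv
    have hsc : ∀ {n : ℕ} {F : MvPolynomial (Fin 3) k}, F.IsHomogeneous n → aeval v F = 0 →
        aeval (fun l => (v j)⁻¹ * v l) F = 0 := fun hF e => by rw [aeval_scale hF, e, mul_zero]
    have hsc' : ∀ {n : ℕ} {F : MvPolynomial (Fin 3) k}, F.IsHomogeneous n →
        aeval (fun l => (v j)⁻¹ * v l) F ≠ 0 → aeval v F ≠ 0 := fun hF e e' => e (hsc hF e')
    haveI := h
    obtain ⟨l, hl⟩ := (smooth_chart_iff f hd hf j).1 (LefPen13.smooth (LefPen.hypIdeal f).subschemeι j) (fun l => (v j)⁻¹ * v l)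
      (inv_mul_cancel₀ hj) (hsc f.2 hv0)
    exact ⟨l, hsc' f.2.pderiv hl⟩
  · intro h
    haveI : IsZariskiLocalAtSource (@Smooth) :=
      HasRingHomProperty.instIsZariskiLocalAtSource (P := @Smooth) (Q := RingHom.Smooth)
    refine IsZariskiLocalAtSource.of_iSup_eq_top (P := @Smooth) (LefPen13.V (LefPen.hypIdeal f).subschemeι) (LefPen13.iSup_V (LefPen.hypIdeal f).subschemeι) fun j => ?_
    have hV := LefPen13.isAffineOpen_V (LefPen.hypIdeal f).subschemeι j
    haveI : Algebra.Smooth k (LefPen13.A (LefPen.hypIdeal f).subschemeι j) := (smooth_chart_iff f hd hf j).2 fun v hvj hv =>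
      h v (fun e => by simp [e] at hvj) hv
    haveI h2 : Smooth (hV.fromSpec ≫ (LefPen.hypIdeal f).subschemeι ≫ CohB1.ProjSpace.toSpec 2 k) := by
      rw [LefPen13.fromSpec_toSpec_V]
      refine (HasRingHomProperty.Spec_iff (P := @Smooth)).2 ?_
      exact RingHom.smooth_algebraMap.2 inferInstance
    rw [← hV.isoSpec_hom_fromSpec, Category.assoc]
    infer_instance

end Groth.Agent.PlaneFF17
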