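import Groth.Agent.Lib.PlaneFF17.Poly
import Groth.Agent.Lib.FunField.RR
import Groth.Agent.Lib.FunField.Degree
import Groth.Agent.Lib.FunField.Riemann
import Groth.Agent.Lib.FunField.Ext

/-!
# Function fields of smooth plane curves: genus, canonical series, non-hyperellipticity
-/

set_option autoImplicit false

open MvPolynomial WithZero FunFld Groth.Agent.FunField
open scoped Multiplicative

namespace Groth.Agent.PlaneFF17

variable {k K : Type*} [Field k] [Field K] [Algebra k K]

/-- `a` is the generic point of a smooth plane curve `f = 0` of degree `d`. -/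
structure Plane (f : MvPolynomial (Fin 3) k) (d : ℕ) (a : Fin 3 → K) : Prop where
  hom : f.IsHomogeneous d
  two : 2 ≤ d
  ne0 : f ≠ 0
  ne : ∀ i, a i ≠ 0
  rel : ∀ (n : ℕ) (F : MvPolynomial (Fin 3) k), F.IsHomogeneous n → (aeval a F = 0 ↔ f ∣ F)
  gen : IntermediateField.adjoin k (Set.range fun p : Fin 3 × Fin 3 => a p.1 / a p.2) = ⊤
  int : ∀ (i : Fin 3) (z : K), (∀ P : Place k K, (∀ l, P.1 (a l / a i) ≤ 1) → P.1 z ≤ 1) →
    z ∈ Algebra.adjoin k (Set.range fun l => a l / a i)

variable {f : MvPolynomial (Fin 3) k} {d : ℕ} {a : Fin 3 → K}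

/-- The divisor of a line: pole bound of the affine coordinates. -/
noncomputable def lineDiv (k : Type*) {K : Type*} [Field k] [Field K] [Algebra k K] (a : Fin 3 → K) : Divisor k K :=
  poleDiv (k := k) (a 1 / a 0) ⊔ poleDiv (k := k) (a 2 / a 0)

theorem lineDiv_nonneg (a : Fin 3 → K) : 0 ≤ lineDiv k a := le_sup_of_le_left (poleDiv_nonneg _)

theorem val_le_lineDiv (h : FF k K) (ha : a 0 ≠ 0) (P : Place k K) (l : Fin 3) :
    P.1 (a l / a 0) ≤ exp (lineDiv k a P) := by
  rcases eq_or_ne (a l / a 0) 0 with e | e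
  · rw [e, map_zero]; exact zero_le
  rw [val_le_exp_iff P e]
  have h1 : poleDiv (k := k) (a 1 / a 0) P ≤ lineDiv k a P := le_sup_left (a := poleDiv (k := k) (a 1 / a 0)) P
  have h2 : poleDiv (k := k) (a 2 / a 0) P ≤ lineDiv k a P := le_sup_right (b := poleDiv (k := k) (a 2 / a 0)) P
  rw [poleDiv_apply h] at h1 h2
  fin_cases l
  · have := lineDiv_nonneg (k := k) a P
    simp only [Finsupp.coe_zero, Pi.zero_apply, Fin.zero_eta, div_self ha] at this ⊢
    have h0 : P.ord (1 : K) = 0 := by simp [Place.ord]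
    omega
  · show -lineDiv k a P ≤ P.ord (a 1 / a 0); omega
  · show -lineDiv k a P ≤ P.ord (a 2 / a 0); omega

theorem exp_lineDiv_le (h : FF k K) {i : Fin 3} (P : Place k K) (ha : ∀ i, a i ≠ 0)
    (hP : ∀ l, P.1 (a l / a i) ≤ 1) : exp (lineDiv k a P) ≤ P.1 (a i / a 0) := by
  have h0 : a i / a 0 ≠ 0 := div_ne_zero (ha i) (ha 0)
  have hl : ∀ l, -P.ord (a l / a 0) ≤ -P.ord (a i / a 0) := fun l => by
    have h2 : a l / a 0 = a l / a i * (a i / a 0) := by
      have := ha i; have := ha 0; field_simp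
    have h3 := (val_le_one_iff P (div_ne_zero (ha l) (ha i))).1 (hP l)
    rw [h2, ord_mul P (div_ne_zero (ha l) (ha i)) h0]
    omega
  rw [val_eq_exp_neg_ord P h0, exp_le_exp]
  show (poleDiv (k := k) (a 1 / a 0) ⊔ poleDiv (k := k) (a 2 / a 0)) P ≤ _
  rw [Finsupp.sup_apply, poleDiv_apply h, poleDiv_apply h]
  have h1 := hl 0
  rw [div_self (ha 0)] at h1
  have h00 : P.ord (1 : K) = 0 := by simp [Place.ord]
  have := hl 1
  have := hl 2
  refine sup_le (max_le (by omega) (by omega)) (max_le (by omega) (by omega))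

theorem aeval_scale {F : MvPolynomial (Fin 3) k} {n : ℕ} (hF : F.IsHomogeneous n) (c : K) (v : Fin 3 → K) :
    aeval (fun l => c * v l) F = c ^ n * aeval v F := by
  rw [aeval_def, aeval_def, eval₂_eq', eval₂_eq', Finset.mul_sum]
  refine Finset.sum_congr rfl fun m hm => ?_
  have hd : m.degree = n := by rw [Finsupp.degree_eq_weight_one]; exact hF (mem_support_iff.1 hm)
  rw [Finsupp.degree_eq_sum] at hd
  simp only [mul_pow, Finset.prod_mul_distrib, Finset.prod_pow_eq_pow_sum, hd]
  ring

theorem aeval_div {F : MvPolynomial (Fin 3) k} {n : ℕ} (hF : F.IsHomogeneous n) (a : Fin 3 → K) (i : Fin 3) :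
    aeval (fun l => a l / a i) F = aeval a F / a i ^ n := by
  simp only [div_eq_inv_mul]
  rw [aeval_scale hF (a i)⁻¹ a, inv_pow]

/-- Forms of degree `n`, as functions. -/
noncomputable def formMap (a : Fin 3 → K) (n : ℕ) : homogeneousSubmodule (Fin 3) k n →ₗ[k] K :=
  (aeval fun l => a l / a 0).toLinearMap.domRestrict (homogeneousSubmodule (Fin 3) k n)

theorem formMap_mem_L (h : FF k K) (ha : a 0 ≠ 0) (n : ℕ) (F : homogeneousSubmodule (Fin 3) k n) :
    formMap a n F ∈ FunFld.L ((n : ℤ) • lineDiv k a) := by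
  intro P
  show P.1 (aeval (fun l => a l / a 0) F.1) ≤ _
  rw [aeval_def, eval₂_eq']
  refine P.1.map_sum_le fun m hm => ?_
  rw [map_mul, map_prod]
  refine (mul_le_mul' (P.2.1 _) (Finset.prod_le_prod (g := fun l => exp (lineDiv k a P) ^ m l) (fun _ _ => zero_le) fun l _ => ?_)).trans ?_
  · rw [map_pow]; exact pow_le_pow_left₀ zero_le (val_le_lineDiv h ha P l) _
  · have hd : m.degree = n := by rw [Finsupp.degree_eq_weight_one]; exact F.2 (mem_support_iff.1 hm)
    rw [Finsupp.degree_eq_sum] at hd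
    rw [Finset.prod_pow_eq_pow_sum, hd, one_mul, ← exp_nsmul, Finsupp.smul_apply, smul_eq_mul, nsmul_eq_mul]

theorem Plane.not_X_dvd (hp : Plane f d a) (i : Fin 3) : ¬ X i ∣ f := by
  rintro ⟨q, hq⟩
  have hq' : f = X i * homogeneousComponent (d - 1) q := by
    have h1 := comp_mul (k := k) (n := d) (by have := hp.two; omega) (isHomogeneous_X k i) q
    rwa [← hq, homogeneousComponent_of_mem hp.hom, if_pos rfl] at h1
  have hfz : aeval a f = 0 := (hp.rel d f hp.hom).2 dvd_rfl
  set q' := homogeneousComponent (d - 1) q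
  have hq0 : aeval a q' = 0 := by
    rw [hq', map_mul, aeval_X] at hfz
    exact (mul_eq_zero.1 hfz).resolve_left (hp.ne i)
  have hdvd := (hp.rel (d - 1) q' (homogeneousComponent_isHomogeneous _ _)).1 hq0
  obtain ⟨c, hc⟩ := hdvd
  have hf0 : f ≠ 0 := hp.ne0
  have : X i * c = 1 := mul_left_cancel₀ hf0 (by
    rw [mul_one]
    calc f * (X i * c) = X i * (f * c) := by ring
      _ = f := by rw [← hc, ← hq'])
  exact X_prime.not_dvd_one ⟨c, this.symm⟩

/-- Functions with bounded poles along a line are forms. -/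
theorem Plane.range_formMap (hp : Plane f d a) (h : FF k K) (n : ℕ) :
    LinearMap.range (formMap (k := k) a n) = FunFld.L ((n : ℤ) • lineDiv k a) := by
  refine le_antisymm ?_ fun z hz => ?_
  · rintro _ ⟨F, rfl⟩; exact formMap_mem_L h (hp.ne 0) n F
  have hchart : ∀ i : Fin 3, ∀ y ∈ Algebra.adjoin k (Set.range fun l => a l / a i),
      ∃ (N : ℕ) (B : MvPolynomial (Fin 3) k), B.IsHomogeneous N ∧ y * a i ^ N = aeval a B := by
    intro i y hy
    induction hy using Algebra.adjoin_induction with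
    | mem x hx =>
      obtain ⟨l, rfl⟩ := hx
      exact ⟨1, X l, isHomogeneous_X k l, by rw [pow_one, aeval_X]; exact div_mul_cancel₀ _ (hp.ne i)⟩
    | algebraMap c => exact ⟨0, C c, isHomogeneous_C _ _, by simp⟩
    | add x y _ _ hx hy =>
      obtain ⟨N, B, hB, hxB⟩ := hx
      obtain ⟨M, C', hC, hyC⟩ := hy
      exact ⟨N + M, B * X i ^ M + C' * X i ^ N, (hB.mul (isHomogeneous_X_pow i M)).add
        (add_comm M N ▸ hC.mul (isHomogeneous_X_pow i N)), by
        simp only [map_add, map_mul, map_pow, aeval_X, ← hxB, ← hyC]; ring⟩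
    | mul x y _ _ hx hy =>
      obtain ⟨N, B, hB, hxB⟩ := hx
      obtain ⟨M, C', hC, hyC⟩ := hy
      exact ⟨N + M, B * C', hB.mul hC, by rw [map_mul, ← hxB, ← hyC]; ring⟩
  have hz' : ∀ i : Fin 3, ∃ (N : ℕ) (B : MvPolynomial (Fin 3) k), B.IsHomogeneous (N + n) ∧
      z * a 0 ^ n * a i ^ N = aeval a B := fun i => by
    have hi : z * (a 0 / a i) ^ n ∈ Algebra.adjoin k (Set.range fun l => a l / a i) := hp.int i _ fun P hP => by
      rw [map_mul, map_pow]
      have h1 : P.1 z ≤ exp (lineDiv k a P) ^ n := by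
        refine (hz P).trans (le_of_eq ?_)
        rw [← exp_nsmul, Finsupp.smul_apply, smul_eq_mul, nsmul_eq_mul]
      refine (mul_le_mul' (h1.trans (pow_le_pow_left₀ zero_le (exp_lineDiv_le h P hp.ne hP) n)) le_rfl).trans ?_
      rw [← mul_pow, ← map_mul, div_mul_div_cancel₀ (hp.ne 0), div_self (hp.ne i), map_one, one_pow]
    obtain ⟨N, B, hB, hBe⟩ := hchart i _ hi
    refine ⟨N, B * X i ^ n, hB.mul (isHomogeneous_X_pow i n), ?_⟩
    rw [map_mul, map_pow, aeval_X, ← hBe, div_pow]
    have := pow_ne_zero n (hp.ne i)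
    field_simp
  choose N B hB hBe using hz'
  set M := N 0 + N 1 + N 2
  have hNM : ∀ i, N i ≤ M := fun i => by fin_cases i <;> simp [M] <;> omega
  let B' : Fin 3 → MvPolynomial (Fin 3) k := fun i => B i * X i ^ (M - N i)
  have hB' : ∀ i, (B' i).IsHomogeneous (M + n) := fun i => by
    have h1 := (hB i).mul (isHomogeneous_X_pow (R := k) i (M - N i))
    rwa [show N i + n + (M - N i) = M + n by have := hNM i; omega] at h1
  have hB'e : ∀ i, z * a 0 ^ n * a i ^ M = aeval a (B' i) := fun i => by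
    rw [map_mul, map_pow, aeval_X, ← hBe i, mul_assoc (z * a 0 ^ n), ← pow_add,
      Nat.add_sub_cancel' (hNM i)]
  have hmem : ∀ i, X i ^ M * B' 0 ∈ Ideal.span {f, X 0 ^ M} := fun i => by
    have hh : (X i ^ M * B' 0 - X 0 ^ M * B' i).IsHomogeneous (M + (M + n)) :=
      ((isHomogeneous_X_pow i M).mul (hB' 0)).sub ((isHomogeneous_X_pow 0 M).mul (hB' i))
    obtain ⟨c, hc⟩ := (hp.rel _ _ hh).1 (by simp only [map_sub, map_mul, map_pow, aeval_X, ← hB'e]; ring)
    exact Ideal.mem_span_pair.2 ⟨c, B' i, by linear_combination -hc⟩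
  obtain ⟨E, F, hEF⟩ := Ideal.mem_span_pair.1 (mem_of_pow (hp.not_X_dvd 0) M (hmem 1) (hmem 2))
  have h1 := congrArg (homogeneousComponent (M + n)) hEF
  rw [homogeneousComponent_of_mem (hB' 0), if_pos rfl, map_add, mul_comm F,
    comp_mul (Nat.le_add_right M n) (isHomogeneous_X_pow 0 M), Nat.add_sub_cancel_left] at h1
  have hE : aeval a (homogeneousComponent (M + n) (E * f)) = 0 :=
    (hp.rel _ _ (homogeneousComponent_isHomogeneous _ _)).2 (by
      rw [mul_comm]
      rcases le_or_gt d (M + n) with hd | hd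
      · rw [comp_mul hd hp.hom]; exact dvd_mul_right _ _
      · rw [comp_mul_zero hd hp.hom]; exact dvd_zero _)
  have h2 := congrArg (aeval a) h1
  rw [map_add, hE, zero_add, map_mul, map_pow, aeval_X, ← hB'e 0, mul_comm] at h2
  refine ⟨⟨homogeneousComponent n F, homogeneousComponent_isHomogeneous n F⟩, ?_⟩
  show aeval (fun l => a l / a 0) (homogeneousComponent n F) = z
  rw [aeval_div (homogeneousComponent_isHomogeneous n F), div_eq_iff (pow_ne_zero _ (hp.ne 0))]
  exact mul_right_cancel₀ (pow_ne_zero M (hp.ne 0)) h2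

theorem Plane.finrank_ker_formMap (hp : Plane f d a) (n : ℕ) :
    Module.finrank k (LinearMap.ker (formMap (k := k) a n)) = if d ≤ n then (n - d + 2).choose 2 else 0 := by
  have hmem : ∀ F : homogeneousSubmodule (Fin 3) k n, F ∈ LinearMap.ker (formMap (k := k) a n) ↔ f ∣ F.1 := fun F => by
    rw [LinearMap.mem_ker, ← hp.rel n F.1 F.2]
    show aeval (fun l => a l / a 0) F.1 = 0 ↔ _
    rw [aeval_div F.2, div_eq_zero_iff]
    simp [hp.ne 0]
  split_ifs with hd
  · let μ : homogeneousSubmodule (Fin 3) k (n - d) →ₗ[k] homogeneousSubmodule (Fin 3) k n :=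
      ((LinearMap.mulLeft k f).comp (homogeneousSubmodule (Fin 3) k (n - d)).subtype).codRestrict
        (homogeneousSubmodule (Fin 3) k n) fun q => by
          have h := hp.hom.mul (show q.1.IsHomogeneous (n - d) from q.2)
          rwa [Nat.add_sub_cancel' hd] at h
    have hμ : Function.Injective μ := fun q q' h =>
      Subtype.ext (mul_left_cancel₀ hp.ne0 (congrArg Subtype.val h))
    have hr : LinearMap.range μ = LinearMap.ker (formMap (k := k) a n) := by
      ext F
      rw [hmem]
      constructor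
      · rintro ⟨q, rfl⟩; exact dvd_mul_right f q.1
      · rintro ⟨q, hq⟩
        refine ⟨⟨homogeneousComponent (n - d) q, homogeneousComponent_isHomogeneous _ _⟩, Subtype.ext ?_⟩
        show f * homogeneousComponent (n - d) q = F.1
        rw [← comp_mul hd hp.hom q, ← hq, homogeneousComponent_of_mem F.2, if_pos rfl]
    rw [← hr, LinearMap.finrank_range_of_inj hμ, finrank_forms]
  · have hb : LinearMap.ker (formMap (k := k) a n) = ⊥ := by
      refine eq_bot_iff.2 fun F hF => ?_
      obtain ⟨q, hq⟩ := (hmem F).1 hF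
      refine (Submodule.mem_bot k).2 (Subtype.ext ?_)
      have h := homogeneousComponent_of_mem (m := n) F.2
      rw [if_pos rfl] at h
      rw [← h, hq, comp_mul_zero (not_le.1 hd) hp.hom]
      rfl
    rw [hb, finrank_bot]

theorem two_mul_choose_two (x : ℕ) : (2 : ℤ) * ((x + 2).choose 2 : ℕ) = (x + 2) * (x + 1) := by
  induction x with
  | zero => simp
  | succ x ih =>
    rw [show x + 1 + 2 = (x + 2) + 1 by omega, Nat.choose_succ_succ, Nat.choose_one_right]
    push_cast
    linear_combination ih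

theorem Plane.ell_formula (hp : Plane f d a) (h : FF k K) (n : ℕ) :
    (2 : ℤ) * ell ((n : ℤ) • lineDiv k a) =
      (n + 2) * (n + 1) - if d ≤ n then ((n : ℤ) - d + 2) * (n - d + 1) else 0 := by
  have hfin : FiniteDimensional k (homogeneousSubmodule (Fin 3) k n) := Module.finite_of_finrank_pos (by
    rw [finrank_forms]; exact Nat.choose_pos (by omega))
  have h1 := (formMap (k := k) a n).finrank_range_add_finrank_ker
  rw [hp.range_formMap h n, hp.finrank_ker_formMap n, finrank_forms, ← FunFld.ell] at h1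
  have h2 := two_mul_choose_two n
  split_ifs with hd
  · rw [if_pos hd] at h1
    have h3 := two_mul_choose_two (n - d)
    push_cast [Nat.cast_sub hd] at h3
    have h4 : (ell ((n : ℤ) • lineDiv k a) : ℤ) + ((n - d + 2).choose 2 : ℕ) = ((n + 2).choose 2 : ℕ) := by
      exact_mod_cast h1
    linarith
  · rw [if_neg hd] at h1
    rw [add_zero] at h1
    rw [h1]
    linarith

theorem deg_zsmul (n : ℤ) (D : Divisor k K) : (n • D).deg = n * D.deg := by
  have h := map_zsmul (Finsupp.liftAddHom fun P : Place k K => AddMonoidHom.mulRight (P.deg : ℤ)) n D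
  simpa [Divisor.deg, Finsupp.liftAddHom_apply] using h

/-- Degree and genus of a smooth plane curve. -/
theorem Plane.deg_genus (hp : Plane f d a) (hK : IsFunctionField k K) :
    (lineDiv k a).deg = d ∧ 2 * (genus k K : ℤ) = ((d : ℤ) - 1) * (d - 2) := by
  set g := genus k K
  set δ := (lineDiv k a).deg
  have hδ0 : 0 ≤ δ := deg_nonneg (lineDiv_nonneg a)
  have hδ : 1 ≤ δ := by
    by_contra hδ
    have h1 := hp.ell_formula (ff hK) 1
    rw [if_neg (by have := hp.two; omega)] at h1
    have h2 := delta_mono (ff hK) (zsmul_nonneg (lineDiv_nonneg a) (Int.natCast_nonneg 1) :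
      (0 : Divisor k K) ≤ ((1 : ℕ) : ℤ) • lineDiv k a)
    rw [delta_zero hK, delta, deg_zsmul] at h2
    push_cast at h1 h2
    omega
  have hlarge : ∀ n : ℕ, 2 * g + d ≤ n →
      (2 : ℤ) * (n * δ + 1 - g) = (n + 2) * (n + 1) - ((n : ℤ) - d + 2) * (n - d + 1) := fun n hn => by
    have h1 := hp.ell_formula (ff hK) n
    rw [if_pos (by omega), ell_of_large_deg hK _ (by
      rw [deg_zsmul]
      have : (n : ℤ) * 1 ≤ n * (lineDiv k a).deg := mul_le_mul_of_nonneg_left hδ (Int.natCast_nonneg n)
      push_cast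
      omega), deg_zsmul] at h1
    exact h1
  have e1 := hlarge (2 * g + d) le_rfl
  have e2 := hlarge (2 * g + d + 1) (Nat.le_succ _)
  push_cast at e1 e2
  have hδd : δ = d := by linarith
  refine ⟨hδd, ?_⟩
  rw [hδd] at e1
  linarith

/-- The canonical series of a smooth plane curve. -/
theorem Plane.isCanonical (hp : Plane f d a) (hK : IsFunctionField k K) (hd : 3 ≤ d) :
    IsCanonical k K (((d - 3 : ℕ) : ℤ) • lineDiv k a) := by
  obtain ⟨h1, h2⟩ := hp.deg_genus hK
  have h3 := hp.ell_formula (ff hK) (d - 3)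
  rw [if_neg (by omega), sub_zero] at h3
  push_cast [Nat.cast_sub hd] at h3
  refine isCanonical_of_ell_deg hK ?_ ?_
  · have : (ell (((d - 3 : ℕ) : ℤ) • lineDiv k a) : ℤ) = genus k K := by
      push_cast [Nat.cast_sub hd]
      linarith
    exact_mod_cast this
  · rw [deg_zsmul, h1]
    push_cast [Nat.cast_sub hd]
    linarith

/-- No subfield of index two has genus zero and a divisor of degree `g - 1`. -/
theorem Plane.not_index_two (hp : Plane f d a) (hK : IsFunctionField k K) (hd : 4 ≤ d)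
    {L : Type*} [Field L] [Algebra k L] [Algebra L K] [IsScalarTower k L K] [FiniteDimensional L K]
    (hL : IsFunctionField k L) (hgL : genus k L = 0) (h2 : Module.finrank L K = 2)
    {E : Divisor k L} (hE : E.deg = genus k K - 1) : False := by
  classical
  obtain ⟨-, hgK⟩ := hp.deg_genus hK
  have hg1 : 1 ≤ genus k K := by
    have : (2 : ℤ) ≤ ((d : ℤ) - 1) * (d - 2) := by nlinarith
    omega
  have hlE : (ell E : ℤ) = genus k K := by
    rw [ell_of_large_deg hL E (by rw [hgL, hE]; push_cast; omega), hE, hgL]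
    push_cast
    ring
  set D := conorm K E
  have hdD : D.deg = 2 * (genus k K : ℤ) - 2 := by rw [deg_conorm (ff hL), h2, hE]; ring
  let ι := (IsScalarTower.toAlgHom k L K).toLinearMap
  have hι : Function.Injective ι := (algebraMap L K).injective
  have hle : Submodule.map ι (FunFld.L E) ≤ FunFld.L D := by
    rintro _ ⟨x, hx, rfl⟩
    intro Q
    show Q.1 (algebraMap L K x) ≤ exp (D Q)
    rw [conorm_apply (ff hL), isOverWith_ramIdx (isOver_under (ff hL) Q) x, ← nsmul_eq_mul, exp_nsmul]
    exact pow_le_pow_left₀ zero_le (hx _) _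
  haveI := finiteDimensional_L (ff hK) D
  have hrange : Submodule.map ι (FunFld.L E) = FunFld.L D ∧ ell D = genus k K := by
    have h3 : (genus k K : ℤ) ≤ ell D := by
      rw [← hlE]
      exact_mod_cast ((Submodule.equivMapOfInjective ι hι _).finrank_eq).le.trans (Submodule.finrank_mono hle)
    obtain ⟨C, hC⟩ := exists_isCanonical hK
    have h4 := riemann_roch hK hC D
    have h5 : ell (C - D) ≤ 1 := by
      rcases Nat.eq_zero_or_pos (ell (C - D)) with e | e
      · omega
      obtain ⟨z, hz, hz'⟩ := exists_ne_zero_of_ell_pos (ff hK) e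
      have h7 : (0 : Divisor k K) = C - D + FunFld.div k z := eq_of_le_of_deg (ff hK) hz' (by
        rw [deg_add, deg_sub, deg_div (ff hK), (isCanonical_deg hK hC).2, hdD, deg_zero]; omega)
      have h8 := ell_add_div (ff hK) (C - D) hz
      rw [← h7, ell_zero hK] at h8
      omega
    have h9 : ell D = genus k K := by omega
    refine ⟨Submodule.eq_of_le_of_finrank_le hle ?_, h9⟩
    rw [← (Submodule.equivMapOfInjective ι hι _).finrank_eq, ← FunFld.ell, ← FunFld.ell]
    omega
  obtain ⟨z, hz, hzD⟩ := isCanonical_sub_isCanonical hK (hp.isCanonical hK (by omega))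
    (isCanonical_of_ell_deg hK hrange.2 hdD)
  have hF : ∀ F : homogeneousSubmodule (Fin 3) k (d - 3), ∃ x : L, algebraMap L K x * z = formMap a (d - 3) F :=
    fun F => by
    have h1 : formMap a (d - 3) F / z ∈ Submodule.map ι (FunFld.L E) := by
      rw [hrange.1, hzD]
      refine (mul_mem_L (ff hK) _ hz _).1 ?_
      rw [mul_div_cancel₀ _ hz]
      exact formMap_mem_L (ff hK) (hp.ne 0) _ F
    obtain ⟨x, -, hx⟩ := h1
    exact ⟨x, (congrArg (· * z) hx).trans (div_mul_cancel₀ _ hz)⟩
  have hFl : ∀ l : Fin 3, ∃ x : L, algebraMap L K x * z = a l / a 0 := fun l => by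
    have hh : (X l * X 0 ^ (d - 4) : MvPolynomial (Fin 3) k).IsHomogeneous (d - 3) := by
      have h := (isHomogeneous_X k l).mul (isHomogeneous_X_pow (R := k) (0 : Fin 3) (d - 4))
      rwa [show 1 + (d - 4) = d - 3 by omega] at h
    obtain ⟨x, hx⟩ := hF ⟨_, hh⟩
    refine ⟨x, hx.trans ?_⟩
    show aeval (fun l => a l / a 0) (X l * X 0 ^ (d - 4) : MvPolynomial (Fin 3) k) = _
    rw [map_mul, map_pow, aeval_X, aeval_X, div_self (hp.ne 0), one_pow, mul_one]
  choose x hx using hFl
  have htop : ∀ y : K, y ∈ (IsScalarTower.toAlgHom k L K).fieldRange := by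
    intro y
    have hy : y ∈ IntermediateField.adjoin k (Set.range fun p : Fin 3 × Fin 3 => a p.1 / a p.2) := by
      rw [hp.gen]; trivial
    refine (IntermediateField.adjoin_le_iff.2 ?_) hy
    rintro _ ⟨⟨i, j⟩, rfl⟩
    refine ⟨x i / x j, ?_⟩
    show algebraMap L K (x i / x j) = a i / a j
    rw [map_div₀, ← mul_div_mul_right _ _ hz, hx, hx, div_div_div_cancel_right₀ (hp.ne 0)]
  have hb : Function.Bijective (algebraMap L K) := ⟨(algebraMap L K).injective, fun y => htop y⟩
  have h1 : Module.finrank L K = 1 :=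
    (AlgEquiv.ofBijective (Algebra.ofId L K) hb).toLinearEquiv.finrank_eq.symm.trans (Module.finrank_self L)
  omega

end Groth.Agent.PlaneFF17
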