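import Groth.Agent.Lib.PlaneFF17.Scheme
import Groth.Agent.Lib.CurveCoh17.DegTwo
import Groth.Agent.Lib.CurveCoh17.P1Genus
import Groth.Agent.Lib.CurveOm17.PullP1
import Groth.Agent.Lib.LurothCurve17

/-!
# Smooth plane curves of degree at least four are not double covers of genus zero curves
-/

set_option linter.style.haveILetI false
set_option autoImplicit false
set_option maxHeartbeats 1000000

universe u

open CategoryTheory CategoryTheory.Limits AlgebraicGeometry TopologicalSpace

namespace Groth.Agent.PlaneFF17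

attribute [local instance] Curv2.stalkAlgebra

variable {k : Type u} [Field k]

/-- A plane curve of degree at least four has no degree two map to a genus zero curve with a divisor of degree `g - 1`. -/
theorem no_double_cover {d : ℕ} (hd : 4 ≤ d) (f : LefPen.Form 2 k d) (hf : f ≠ 0)
    [(LefPen.hypIdeal f).subscheme.Over (Spec (CommRingCat.of k))]
    (hinst : (LefPen.hypIdeal f).subscheme ↘ Spec (CommRingCat.of k) =
      (LefPen.hypIdeal f).subschemeι ≫ CohB1.ProjSpace.toSpec 2 k)
    [IsIntegral (LefPen.hypIdeal f).subscheme]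
    [Smooth ((LefPen.hypIdeal f).subscheme ↘ Spec (CommRingCat.of k))]
    {P : Scheme.{u}} [P.Over (Spec (CommRingCat.of k))] [IsIntegral P] [IsProper (P ↘ Spec (CommRingCat.of k))]
    [Smooth (P ↘ Spec (CommRingCat.of k))] (hP : topologicalKrullDim P = 1)
    (h0 : Module.finrank k (Coh.HH P (Coh.structureModule P) 0) = 1) (hg0 : Curv2.genus k P = 0)
    (hE : FunFld.IsFunctionField k P.functionField → FunFld.genus k P.functionField = 0 →
      2 * (FunFld.genus k (LefPen.hypIdeal f).subscheme.functionField : ℤ) = ((d : ℤ) - 1) * (d - 2) →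
      ∃ E : FunFld.Divisor k P.functionField,
        E.deg = FunFld.genus k (LefPen.hypIdeal f).subscheme.functionField - 1)
    (h : (LefPen.hypIdeal f).subscheme ⟶ P)
    (hh : h ≫ (P ↘ Spec (CommRingCat.of k)) = (LefPen.hypIdeal f).subscheme ↘ Spec (CommRingCat.of k))
    [IsFinite h] [Flat h] (h2 : ∀ y : P, Scheme.Hom.finrank h y = 2) : False := by
  haveI := (isIntegral_hyp f (by omega) hf hinst).1
  have hdim := topologicalKrullDim_hyp f (by omega) hf
  obtain ⟨hK, a, hp⟩ := exists_plane f (by omega) hf hinst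
  obtain ⟨hL, hgL⟩ := GenusFF17.genus_functionField (k := k) hP h0
  rw [hg0] at hgL
  obtain ⟨E, hEd⟩ := hE hL hgL (hp.deg_genus hK).2
  haveI : JacobsonSpace (LefPen.hypIdeal f).subscheme :=
    LocallyOfFiniteType.jacobsonSpace ((LefPen.hypIdeal f).subscheme ↘ Spec (CommRingCat.of k))
  have e := CurveOm17.map_genericPoint_of_isFinite hP.le hdim h
  letI : Algebra P.functionField (LefPen.hypIdeal f).subscheme.functionField := (Curve17.genMap h e).hom.toAlgebra
  haveI : IsScalarTower k P.functionField (LefPen.hypIdeal f).subscheme.functionField :=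
    IsScalarTower.of_algebraMap_eq' (congrArg CommRingCat.Hom.hom
      (Curve17.genMap_baseStalk ((LefPen.hypIdeal f).subscheme ↘ Spec (CommRingCat.of k))
        (P ↘ Spec (CommRingCat.of k)) h hh e)).symm
  have hr : Module.finrank P.functionField (LefPen.hypIdeal f).subscheme.functionField = 2 := by
    refine Eq.trans ?_ (h2 (genericPoint P))
    exact (CurveOm17.finrank_genMap_eq_residueDegree h e).trans (CurveCoh17.finrank_genericPoint_eq_residueDegree h e
      (fun z hz => AmpleFin18.preimage_genericPoint hdim.le hP h hz)).symm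
  haveI : FiniteDimensional P.functionField (LefPen.hypIdeal f).subscheme.functionField :=
    Module.finite_of_finrank_pos (by omega)
  exact hp.not_index_two hK hd hL hgL hr hEd

/-- The function field of the line has divisors of every degree. -/
theorem exists_divisor_P1 (n : ℤ) :
    letI : (CohB1.ProjSpace 1 k).Over (Spec (CommRingCat.of k)) := ⟨CohB1.ProjSpace.toSpec 1 k⟩
    haveI := RegExt.isIntegral_projSpace 1 k
    FunFld.IsFunctionField k (CohB1.ProjSpace 1 k).functionField →
      ∃ E : FunFld.Divisor k (CohB1.ProjSpace 1 k).functionField, E.deg = n := by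
  letI : (CohB1.ProjSpace 1 k).Over (Spec (CommRingCat.of k)) := ⟨CohB1.ProjSpace.toSpec 1 k⟩
  haveI := RegExt.isIntegral_projSpace 1 k
  intro hL
  obtain ⟨e, he⟩ := LurothCurve17.exists_ratFunc_equiv (k := k)
  let e' : RatFunc k ≃ₐ[k] (CohB1.ProjSpace 1 k).functionField := AlgEquiv.ofRingEquiv (f := e) fun c => by
    rw [IsScalarTower.algebraMap_apply k (Polynomial k) (RatFunc k), Polynomial.algebraMap_eq, RatFunc.algebraMap_C]
    exact he c
  have ht : IntermediateField.adjoin k ({e' RatFunc.X} : Set (CohB1.ProjSpace 1 k).functionField) = ⊤ := by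
    refine eq_top_iff.2 fun z _ => ?_
    obtain ⟨w, rfl⟩ := e'.surjective z
    have hw : w ∈ IntermediateField.adjoin k ({RatFunc.X} : Set (RatFunc k)) := by
      rw [RatFunc.adjoin_X]; trivial
    have h := IntermediateField.adjoin_map k ({RatFunc.X} : Set (RatFunc k)) e'.toAlgHom
    rw [Set.image_singleton] at h
    exact h.le ⟨w, hw, rfl⟩
  have htr : Transcendental k (e' RatFunc.X) := fun ha => RatFunc.transcendental_X (K := k)
    ((isAlgebraic_algHom_iff e'.toAlgHom e'.injective).1 ha)
  refine ⟨n • FunField.poleDiv (k := k) (e' RatFunc.X), ?_⟩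
  rw [deg_zsmul, FunField.deg_poleDiv (FunField.ff hL) htr, ht, IntermediateField.finrank_top]
  simp

/-- The target of a double cover by a plane curve is integral, with constant global functions. -/
theorem target_integral {d : ℕ} (hd : 2 ≤ d) (f : LefPen.Form 2 k d) (hf : f ≠ 0)
    [(LefPen.hypIdeal f).subscheme.Over (Spec (CommRingCat.of k))]
    (hinst : (LefPen.hypIdeal f).subscheme ↘ Spec (CommRingCat.of k) =
      (LefPen.hypIdeal f).subschemeι ≫ CohB1.ProjSpace.toSpec 2 k)
    [IsIntegral (LefPen.hypIdeal f).subscheme]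
    [Smooth ((LefPen.hypIdeal f).subscheme ↘ Spec (CommRingCat.of k))]
    {P : Scheme.{u}} [P.Over (Spec (CommRingCat.of k))] [IsProper (P ↘ Spec (CommRingCat.of k))]
    [Smooth (P ↘ Spec (CommRingCat.of k))] (hP : topologicalKrullDim P = 1)
    (h : (LefPen.hypIdeal f).subscheme ⟶ P)
    (hh : h ≫ (P ↘ Spec (CommRingCat.of k)) = (LefPen.hypIdeal f).subscheme ↘ Spec (CommRingCat.of k))
    [IsFinite h] [Flat h] (h2 : ∀ y : P, Scheme.Hom.finrank h y = 2) :
    IsIntegral P ∧ Module.finrank k (Coh.HH P (Coh.structureModule P) 0) = 1 := by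
  have hsurj : Function.Surjective h := by
    haveI : Surjective h := (Scheme.Hom.one_le_finrank_iff_surjective h).1
      (fun y => show 1 ≤ Scheme.Hom.finrank h y by rw [h2 y]; omega)
    exact h.surjective
  haveI : IrreducibleSpace P := hsurj.irreducibleSpace h.continuous
  haveI : IsReduced P := by
    haveI : ∀ z : P, _root_.IsReduced (P.presheaf.stalk z) := fun z =>
      haveI := SmoothReg17.isDomain_stalk (P ↘ Spec (CommRingCat.of k)) z
      inferInstance
    exact isReduced_of_isReduced_stalk P
  haveI : IsIntegral P := isIntegral_of_irreducibleSpace_of_isReduced P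
  refine ⟨inferInstance, ?_⟩
  have h0C := (cohomology (by omega) f hf hinst).1
  have e : h (genericPoint (LefPen.hypIdeal f).subscheme) = genericPoint P :=
    Curve17.apply_genericPoint_of_surjective h hsurj
  let φ : k →+* Γ(P, ⊤) := Coh.toGlobal (P ↘ Spec (CommRingCat.of k))
  have hφ : ∀ z : Γ(P, ⊤), ∃ c, φ c = z := fun z => by
    obtain ⟨c, hc⟩ := GenusFF17.exists_eq_algebraMap (k := k) h0C (h.appTop z)
    haveI : Nonempty ((⊤ : P.Opens) : Scheme.{u}) := ⟨⟨genericPoint P, trivial⟩⟩
    refine ⟨c, P.germToFunctionField_injective ⊤ ?_⟩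
    refine ((Curve17.genMap h e).hom : P.functionField →+* _).injective ?_
    have hg : ∀ w : Γ(P, ⊤), (Curve17.genMap h e).hom (P.presheaf.germ ⊤ (genericPoint P) trivial w) =
        (LefPen.hypIdeal f).subscheme.presheaf.germ ⊤ (genericPoint _) trivial (h.appTop w) := fun w => by
      rw [Curve17.genMap, CommRingCat.hom_comp, RingHom.comp_apply]
      erw [P.presheaf.germ_stalkSpecializes_apply, Scheme.Hom.germ_stalkMap_apply]
      rfl
    show (Curve17.genMap h e).hom (P.presheaf.germ ⊤ (genericPoint P) trivial (φ c)) =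
      (Curve17.genMap h e).hom (P.presheaf.germ ⊤ (genericPoint P) trivial z)
    rw [hg, hg, ← hc]
    refine congrArg ((LefPen.hypIdeal f).subscheme.presheaf.germ ⊤ (genericPoint _) trivial) ?_
    show h.appTop ((P ↘ Spec (CommRingCat.of k)).appTop ((Scheme.ΓSpecIso (CommRingCat.of k)).inv c)) =
      ((LefPen.hypIdeal f).subscheme ↘ Spec (CommRingCat.of k)).appTop ((Scheme.ΓSpecIso (CommRingCat.of k)).inv c)
    rw [← hh, Scheme.Hom.comp_appTop]
    rfl
  have hsmul : ∀ (c : k) (w : Coh.HH P (Coh.structureModule P) 0), CurveCoh17.hh0 (Coh.structureModule P) (c • w) =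
      (show Γ(P, ⊤) from φ c) • CurveCoh17.hh0 (Coh.structureModule P) w := fun c w =>
    CurveCoh17.hh0_smul (M := Coh.structureModule P) _ w
  let u : Γ(Coh.structureModule P, ⊤) := (1 : Γ(P, ⊤))
  refine (finrank_eq_one_iff' ).2 ⟨(CurveCoh17.hh0 (Coh.structureModule P)).symm u, ?_, fun w => ?_⟩
  · intro h1
    have h3 := congrArg (CurveCoh17.hh0 (Coh.structureModule P)) h1
    rw [AddEquiv.apply_symm_apply, map_zero] at h3
    haveI : Nonempty ((⊤ : P.Opens) : Scheme.{u}) := ⟨⟨genericPoint P, trivial⟩⟩
    haveI : Nontrivial Γ(P, ⊤) := inferInstance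
    exact one_ne_zero (α := Γ(P, ⊤)) h3
  · obtain ⟨c, hc⟩ := hφ (CurveCoh17.hh0 (Coh.structureModule P) w)
    refine ⟨c, (CurveCoh17.hh0 (Coh.structureModule P)).injective ?_⟩
    rw [hsmul, AddEquiv.apply_symm_apply]
    exact (mul_one (show Γ(P, ⊤) from φ c)).trans hc

end Groth.Agent.PlaneFF17
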